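import Cfsg.Agent.Lib.McLType.Codes

/-!
# An elementary abelian group of order 16 with a basis, and its normaliser

* `Basis`, `Basis.e`, `Basis.U`, `Basis.cd`
* `conj_eq`, `cd_mul`, `cd_of_images`
* `ev` : products along words
-/

set_option autoImplicit false

namespace Cfsg.Agent.McLType

variable {G : Type*} [Group G]

/-- An element or one. -/
def pick (p : Bool) (x : G) : G := bif p then x else 1

/-- Four commuting involutions with trivial kernel. -/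
structure Basis (G : Type*) [Group G] where
  b0 : G
  b1 : G
  b2 : G
  b3 : G
  sq0 : b0 * b0 = 1
  sq1 : b1 * b1 = 1
  sq2 : b2 * b2 = 1
  sq3 : b3 * b3 = 1
  c01 : Commute b0 b1
  c02 : Commute b0 b2
  c03 : Commute b0 b3
  c12 : Commute b1 b2
  c13 : Commute b1 b3
  c23 : Commute b2 b3
  free : ∀ v, v < 16 → v ≠ 0 → pick (Nat.testBit v 0) b0 * pick (Nat.testBit v 1) b1 *
    pick (Nat.testBit v 2) b2 * pick (Nat.testBit v 3) b3 ≠ 1

namespace Basis

variable (F : Basis G)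

/-- The vector `v`. -/
def e (v : ℕ) : G := pick (Nat.testBit v 0) F.b0 * pick (Nat.testBit v 1) F.b1 *
  pick (Nat.testBit v 2) F.b2 * pick (Nat.testBit v 3) F.b3

theorem pick_xor {x : G} (hx : x * x = 1) (p q : Bool) : pick (p ^^ q) x = pick p x * pick q x := by
  cases p <;> cases q <;> simp [pick, hx]

theorem pick_comm {x y : G} (h : Commute x y) (p q : Bool) : Commute (pick p x) (pick q y) := by
  cases p <;> cases q <;> simp [pick, h]

theorem e_xor (u v : ℕ) : F.e (u ^^^ v) = F.e u * F.e v := by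
  simp only [e, Nat.testBit_xor, pick_xor F.sq0, pick_xor F.sq1, pick_xor F.sq2, pick_xor F.sq3]
  generalize Nat.testBit u 0 = p0, Nat.testBit u 1 = p1, Nat.testBit u 2 = p2, Nat.testBit u 3 = p3,
    Nat.testBit v 0 = q0, Nat.testBit v 1 = q1, Nat.testBit v 2 = q2, Nat.testBit v 3 = q3
  have h01 := pick_comm F.c01.symm p1 q0
  have h02 := pick_comm F.c02.symm p2 q0
  have h12 := pick_comm F.c12.symm p2 q1
  have h03 := pick_comm F.c03.symm p3 q0
  have h13 := pick_comm F.c13.symm p3 q1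
  have h23 := pick_comm F.c23.symm p3 q2
  calc pick p0 F.b0 * pick q0 F.b0 * (pick p1 F.b1 * pick q1 F.b1) * (pick p2 F.b2 * pick q2 F.b2) *
        (pick p3 F.b3 * pick q3 F.b3)
      = pick p0 F.b0 * (pick q0 F.b0 * pick p1 F.b1) * (pick q1 F.b1 * pick p2 F.b2) *
        (pick q2 F.b2 * pick p3 F.b3) * pick q3 F.b3 := by simp only [mul_assoc]
    _ = pick p0 F.b0 * (pick p1 F.b1 * pick q0 F.b0) * (pick p2 F.b2 * pick q1 F.b1) *
        (pick p3 F.b3 * pick q2 F.b2) * pick q3 F.b3 := by rw [h01.eq, h12.eq, h23.eq]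
    _ = pick p0 F.b0 * pick p1 F.b1 * (pick q0 F.b0 * pick p2 F.b2) * (pick q1 F.b1 * pick p3 F.b3) *
        pick q2 F.b2 * pick q3 F.b3 := by simp only [mul_assoc]
    _ = pick p0 F.b0 * pick p1 F.b1 * (pick p2 F.b2 * pick q0 F.b0) * (pick p3 F.b3 * pick q1 F.b1) *
        pick q2 F.b2 * pick q3 F.b3 := by rw [h02.eq, h13.eq]
    _ = pick p0 F.b0 * pick p1 F.b1 * pick p2 F.b2 * (pick q0 F.b0 * pick p3 F.b3) * pick q1 F.b1 *
        pick q2 F.b2 * pick q3 F.b3 := by simp only [mul_assoc]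
    _ = _ := by rw [← h03.eq]; simp only [mul_assoc]

theorem e_zero : F.e 0 = 1 := by simp [e, pick]

theorem e_self (v : ℕ) : F.e v * F.e v = 1 := by rw [← e_xor, Nat.xor_self, e_zero]

theorem e_inv (v : ℕ) : (F.e v)⁻¹ = F.e v := inv_eq_of_mul_eq_one_right (F.e_self v)

theorem e_comm (u v : ℕ) : Commute (F.e u) (F.e v) := by
  rw [commute_iff_eq, ← e_xor, ← e_xor, Nat.xor_comm]

theorem e_eq_one {v : ℕ} (hv : v < 16) : F.e v = 1 ↔ v = 0 :=
  ⟨fun h => by_contra fun h0 => F.free v hv h0 h, fun h => h ▸ F.e_zero⟩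

theorem e_inj {u v : ℕ} (hu : u < 16) (hv : v < 16) (h : F.e u = F.e v) : u = v := by
  have h1 : F.e (u ^^^ v) = 1 := by rw [e_xor, h, e_self]
  exact Nat.xor_eq_zero_iff.mp ((F.e_eq_one (Nat.xor_lt_two_pow (n := 4) hu hv)).mp h1)

/-- The subgroup. -/
def U : Subgroup G where
  carrier := {x | ∃ v, v < 16 ∧ F.e v = x}
  mul_mem' := by
    rintro x y ⟨u, hu, rfl⟩ ⟨v, hv, rfl⟩
    exact ⟨u ^^^ v, Nat.xor_lt_two_pow (n := 4) hu hv, F.e_xor u v⟩
  one_mem' := ⟨0, by norm_num, F.e_zero⟩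
  inv_mem' := by rintro x ⟨v, hv, rfl⟩; exact ⟨v, hv, (F.e_inv v).symm⟩

theorem mem_U {x : G} : x ∈ F.U ↔ ∃ v, v < 16 ∧ F.e v = x := Iff.rfl

theorem e_mem {v : ℕ} (hv : v < 16) : F.e v ∈ F.U := ⟨v, hv, rfl⟩

theorem card_U : Nat.card F.U = 16 := by
  have h : Function.Bijective (fun v : Fin 16 => (⟨F.e v, F.e_mem v.2⟩ : F.U)) :=
    ⟨fun u v huv => Fin.ext (F.e_inj u.2 v.2 (congrArg Subtype.val huv)),
      fun ⟨x, v, hv, hx⟩ => ⟨⟨v, hv⟩, Subtype.ext hx⟩⟩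
  simpa using (Nat.card_eq_of_bijective _ h).symm

theorem U_comm : IsMulCommutative F.U := by
  refine ⟨⟨fun ⟨x, u, hu, hx⟩ ⟨y, v, hv, hy⟩ => Subtype.ext ?_⟩⟩
  subst hx hy
  exact (F.e_comm u v).eq

/-- The index of a vector. -/
noncomputable def idx (x : G) : ℕ := by
  classical exact if h : x ∈ F.U then Classical.choose h else 0

theorem idx_e {v : ℕ} (hv : v < 16) : F.idx (F.e v) = v := by
  classical
  have h : F.e v ∈ F.U := F.e_mem hv
  unfold idx
  rw [dif_pos h]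
  exact F.e_inj (Classical.choose_spec h).1 hv (Classical.choose_spec h).2

theorem e_idx {x : G} (hx : x ∈ F.U) : F.e (F.idx x) = x := by
  obtain ⟨v, hv, rfl⟩ := hx
  rw [F.idx_e hv]

theorem idx_lt (x : G) : F.idx x < 16 := by
  classical
  unfold idx
  split_ifs with h
  · exact (Classical.choose_spec h).1
  · norm_num

/-- The code of the action of `h` by conjugation. -/
noncomputable def cd (h : G) : ℕ :=
  mkCode (F.idx (h * F.b0 * h⁻¹)) (F.idx (h * F.b1 * h⁻¹)) (F.idx (h * F.b2 * h⁻¹))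
    (F.idx (h * F.b3 * h⁻¹))

theorem e_basis : F.e 1 = F.b0 ∧ F.e 2 = F.b1 ∧ F.e 4 = F.b2 ∧ F.e 8 = F.b3 := by
  refine ⟨?_, ?_, ?_, ?_⟩ <;> simp [e, pick, Nat.testBit_succ]

theorem conj_eq {h : G} (hh : h ∈ Subgroup.normalizer (F.U : Set G)) (v : ℕ) :
    h * F.e v * h⁻¹ = F.e (app (F.cd h) v) := by
  have hm : ∀ x ∈ F.U, h * x * h⁻¹ ∈ F.U := fun x hx => (Subgroup.mem_normalizer_iff.mp hh x).mp hx
  obtain ⟨e0, e1, e2, e3⟩ := F.e_basis
  obtain ⟨n0, n1, n2, n3⟩ := nib_mkCode (F.idx_lt (h * F.b0 * h⁻¹)) (F.idx_lt (h * F.b1 * h⁻¹))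
    (F.idx_lt (h * F.b2 * h⁻¹)) (F.idx_lt (h * F.b3 * h⁻¹))
  have i0 := F.e_idx (hm _ (e0 ▸ F.e_mem (by norm_num : 1 < 16)))
  have i1 := F.e_idx (hm _ (e1 ▸ F.e_mem (by norm_num : 2 < 16)))
  have i2 := F.e_idx (hm _ (e2 ▸ F.e_mem (by norm_num : 4 < 16)))
  have i3 := F.e_idx (hm _ (e3 ▸ F.e_mem (by norm_num : 8 < 16)))
  have key : ∀ (p : Bool) (j : ℕ) (x : G), F.e j = h * x * h⁻¹ →
      h * pick p x * h⁻¹ = F.e (bif p then j else 0) := fun p j x hx => by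
    cases p <;> simp [pick, hx, e_zero]
  rw [app, e_xor, e_xor, e_xor, term, term, term, term, cd, n0, n1, n2, n3,
    ← key _ _ _ i0, ← key _ _ _ i1, ← key _ _ _ i2, ← key _ _ _ i3]
  conv_lhs => rw [e]
  group

theorem app_cd_eq {h : G} (hh : h ∈ Subgroup.normalizer (F.U : Set G)) {u v : ℕ} (hv : v < 16)
    (huv : h * F.e u * h⁻¹ = F.e v) : app (F.cd h) u = v :=
  F.e_inj (app_lt _ _) hv ((F.conj_eq hh u).symm.trans huv)

theorem cd_mul {h k : G} (hh : h ∈ Subgroup.normalizer (F.U : Set G))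
    (hk : k ∈ Subgroup.normalizer (F.U : Set G)) : F.cd (h * k) = comp (F.cd h) (F.cd k) := by
  obtain ⟨e0, e1, e2, e3⟩ := F.e_basis
  obtain ⟨n0, n1, n2, n3⟩ := nib_mkCode (F.idx_lt (k * F.b0 * k⁻¹)) (F.idx_lt (k * F.b1 * k⁻¹))
    (F.idx_lt (k * F.b2 * k⁻¹)) (F.idx_lt (k * F.b3 * k⁻¹))
  have key : ∀ (b : G) (v : ℕ), v < 16 → F.e v = b →
      F.idx (h * k * b * (h * k)⁻¹) = app (F.cd h) (F.idx (k * b * k⁻¹)) := fun b v hv hb => by
    subst hb
    rw [show h * k * F.e v * (h * k)⁻¹ = h * (k * F.e v * k⁻¹) * h⁻¹ by group, F.conj_eq hk,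
      F.conj_eq hh, F.idx_e (app_lt _ _), F.idx_e (app_lt _ _)]
  have l : F.cd (h * k) = mkCode (app (F.cd h) (nib (F.cd k) 0)) (app (F.cd h) (nib (F.cd k) 1))
      (app (F.cd h) (nib (F.cd k) 2)) (app (F.cd h) (nib (F.cd k) 3)) := by
    conv_rhs => rw [cd, cd, n0, n1, n2, n3, ← cd, ← key _ 1 (by norm_num) e0,
      ← key _ 2 (by norm_num) e1, ← key _ 4 (by norm_num) e2, ← key _ 8 (by norm_num) e3]
    rfl
  exact l

theorem cd_one : F.cd 1 = cid := by
  obtain ⟨e0, e1, e2, e3⟩ := F.e_basis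
  simp only [cd, one_mul, inv_one, mul_one, ← e0, ← e1, ← e2, ← e3,
    F.idx_e (show 1 < 16 by norm_num), F.idx_e (show 2 < 16 by norm_num),
    F.idx_e (show 4 < 16 by norm_num), F.idx_e (show 8 < 16 by norm_num)]
  rfl

theorem mem_centralizer_of_cd {h : G} (hh : h ∈ Subgroup.normalizer (F.U : Set G))
    (hc : F.cd h = cid) : h ∈ Subgroup.centralizer (F.U : Set G) := by
  rw [Subgroup.mem_centralizer_iff]
  rintro _ ⟨v, hv, rfl⟩
  have := F.conj_eq hh v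
  rw [hc, app_cid v hv] at this
  exact (mul_inv_eq_iff_eq_mul.mp this).symm

theorem cd_of_images [Finite G] {h : G} {x0 x1 x2 x3 : ℕ}
    (l0 : x0 < 16) (l1 : x1 < 16) (l2 : x2 < 16) (l3 : x3 < 16)
    (h0 : h * F.b0 * h⁻¹ = F.e x0) (h1 : h * F.b1 * h⁻¹ = F.e x1)
    (h2 : h * F.b2 * h⁻¹ = F.e x2) (h3 : h * F.b3 * h⁻¹ = F.e x3) :
    h ∈ Subgroup.normalizer (F.U : Set G) ∧ F.cd h = mkCode x0 x1 x2 x3 := by
  refine ⟨?_, by rw [cd, h0, h1, h2, h3, F.idx_e l0, F.idx_e l1, F.idx_e l2, F.idx_e l3]⟩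
  have key : ∀ (p : Bool) (x : G) (j : ℕ), j < 16 → h * x * h⁻¹ = F.e j →
      h * pick p x * h⁻¹ ∈ F.U := fun p x j hj hx => by
    cases p
    · simp [pick]
    · simp [pick, hx, F.e_mem hj]
  have hmap : ∀ x ∈ F.U, h * x * h⁻¹ ∈ F.U := by
    rintro _ ⟨v, hv, rfl⟩
    have := mul_mem (mul_mem (mul_mem (key (Nat.testBit v 0) _ _ l0 h0) (key (Nat.testBit v 1) _ _ l1 h1))
      (key (Nat.testBit v 2) _ _ l2 h2)) (key (Nat.testBit v 3) _ _ l3 h3)
    convert this using 1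
    rw [e]
    group
  have hf : F.U.map (MulAut.conj h).toMonoidHom = F.U := by
    refine Subgroup.eq_of_le_of_card_ge ?_ (Nat.le_of_eq ?_)
    · rintro _ ⟨x, hx, rfl⟩; exact hmap x hx
    · exact (Subgroup.card_map_of_injective (MulAut.conj h).injective).symm
  rw [Subgroup.mem_normalizer_iff]
  refine fun x => ⟨hmap x, fun hx => ?_⟩
  rw [← hf] at hx
  obtain ⟨y, hy, hyx⟩ := hx
  have : y = x := mul_left_cancel (mul_right_cancel (show h * y * h⁻¹ = h * x * h⁻¹ from hyx))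
  exact this ▸ hy

end Basis

/-- The product along a word. -/
def ev (f : ℕ → G) (u : List ℕ) : G := (u.map f).prod

theorem ev_nil (f : ℕ → G) : ev f [] = 1 := rfl

theorem ev_cons (f : ℕ → G) (l : ℕ) (u : List ℕ) : ev f (l :: u) = f l * ev f u := List.prod_cons

theorem ev_append (f : ℕ → G) (u v : List ℕ) : ev f (u ++ v) = ev f u * ev f v := by
  simp [ev]

theorem ev_flatMap (f : ℕ → G) (s : ℕ → List ℕ) (u : List ℕ) :
    ev f (u.flatMap s) = ev (fun l => ev f (s l)) u := by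
  induction u with
  | nil => rfl
  | cons l u ih => rw [List.flatMap_cons, ev_append, ev_cons, ih]

theorem ev_mem (K : Subgroup G) (f : ℕ → G) (u : List ℕ) (h : ∀ l ∈ u, f l ∈ K) : ev f u ∈ K :=
  list_prod_mem fun x hx => by
    obtain ⟨l, hl, rfl⟩ := List.mem_map.mp hx
    exact h l hl

/-- The code along a word. -/
def cev (f : ℕ → ℕ) (u : List ℕ) : ℕ := u.foldr (fun l c => comp (f l) c) cid

theorem cd_ev (F : Basis G) (f : ℕ → G) (g : ℕ → ℕ) (u : List ℕ)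
    (hn : ∀ l ∈ u, f l ∈ Subgroup.normalizer (F.U : Set G)) (hg : ∀ l ∈ u, F.cd (f l) = g l) :
    F.cd (ev f u) = cev g u := by
  induction u with
  | nil => exact F.cd_one
  | cons l u ih =>
    rw [ev_cons, F.cd_mul (hn l (by simp)) (ev_mem _ f u fun x hx => hn x (by simp [hx])),
      ih (fun x hx => hn x (by simp [hx])) (fun x hx => hg x (by simp [hx])), hg l (by simp)]
    rfl

end Cfsg.Agent.McLType
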