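import Cfsg.Agent.EqLemmas

/-!
# Linear maps of `GF(2)^4` coded by natural numbers

A vector is a number below 16, a linear map is the number with the four images as hexadecimal digits.

* `app`, `comp`, `cid`, `mkCode`
* `app_xor`, `app_comp`, `app_cid`
-/

set_option autoImplicit false

namespace Cfsg.Agent.McLType

/-- The `i`th hexadecimal digit. -/
def nib (c i : ℕ) : ℕ := (c >>> (4 * i)) &&& 15

/-- One term of a linear combination. -/
def term (c v i : ℕ) : ℕ := bif Nat.testBit v i then nib c i else 0

/-- The map coded by `c` at `v`. -/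
def app (c v : ℕ) : ℕ := term c v 0 ^^^ term c v 1 ^^^ term c v 2 ^^^ term c v 3

/-- The code with given images. -/
def mkCode (a b c d : ℕ) : ℕ := a + 16 * b + 256 * c + 4096 * d

/-- The identity. -/
def cid : ℕ := 33825

/-- The code of the composite. -/
def comp (c d : ℕ) : ℕ :=
  mkCode (app c (nib d 0)) (app c (nib d 1)) (app c (nib d 2)) (app c (nib d 3))

theorem nib_lt (c i : ℕ) : nib c i < 16 := Nat.lt_succ_of_le Nat.and_le_right

theorem term_lt (c v i : ℕ) : term c v i < 2 ^ 4 := by
  unfold term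
  cases Nat.testBit v i
  · simp
  · exact nib_lt c i

theorem app_lt (c v : ℕ) : app c v < 16 :=
  Nat.xor_lt_two_pow (Nat.xor_lt_two_pow (Nat.xor_lt_two_pow (term_lt c v 0) (term_lt c v 1))
    (term_lt c v 2)) (term_lt c v 3)

theorem term_xor (c u v i : ℕ) : term c (u ^^^ v) i = term c u i ^^^ term c v i := by
  unfold term
  rw [Nat.testBit_xor]
  cases Nat.testBit u i <;> cases Nat.testBit v i <;> simp

theorem app_xor (c u v : ℕ) : app c (u ^^^ v) = app c u ^^^ app c v := by
  simp only [app, term_xor]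
  ac_rfl

theorem app_zero (c : ℕ) : app c 0 = 0 := by simp [app, term]

theorem app_cid : ∀ v, v < 16 → app cid v = v := by decide +kernel

theorem nib_mkCode {a b c d : ℕ} (ha : a < 16) (hb : b < 16) (hc : c < 16) (hd : d < 16) :
    nib (mkCode a b c d) 0 = a ∧ nib (mkCode a b c d) 1 = b ∧ nib (mkCode a b c d) 2 = c ∧
      nib (mkCode a b c d) 3 = d := by
  have h : ∀ x, x &&& 15 = x % 16 := fun x => Nat.and_two_pow_sub_one_eq_mod x 4
  simp only [nib, mkCode, h, Nat.shiftRight_eq_div_pow]
  norm_num
  omega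

theorem app_comp (c d v : ℕ) : app (comp c d) v = app c (app d v) := by
  obtain ⟨h0, h1, h2, h3⟩ := nib_mkCode (app_lt c (nib d 0)) (app_lt c (nib d 1))
    (app_lt c (nib d 2)) (app_lt c (nib d 3))
  rw [show app d v = term d v 0 ^^^ term d v 1 ^^^ term d v 2 ^^^ term d v 3 from rfl, app_xor, app_xor, app_xor,
    show app (comp c d) v = term (comp c d) v 0 ^^^ term (comp c d) v 1 ^^^ term (comp c d) v 2 ^^^
      term (comp c d) v 3 from rfl]
  simp only [term, comp, h0, h1, h2, h3]
  cases Nat.testBit v 0 <;> cases Nat.testBit v 1 <;> cases Nat.testBit v 2 <;>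
    cases Nat.testBit v 3 <;> simp [app_zero]

end Cfsg.Agent.McLType
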