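import Cfsg.Agent.EqLemmas

/-!
# Involutions and regular elementary abelian subgroups of `A₈`

* `exists_even_conj`, `involution_cases`
* `X`, `exists_conj_eq_X`, `card_normalizer_X_le`, `eq_tr_of_commute`
-/

set_option autoImplicit false
set_option linter.style.haveILetI false

namespace Cfsg.Agent.McLType

open Equiv

/-- A conjugacy in `S_n` can be made even when some odd element fixes the first permutation. -/
theorem exists_even_conj {p q τ : Perm (Fin 8)} (h : IsConj p q) (hτ : Perm.sign τ = -1)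
    (hc : τ * p * τ⁻¹ = p) : ∃ σ : Perm (Fin 8), Perm.sign σ = 1 ∧ σ * p * σ⁻¹ = q := by
  obtain ⟨σ, hσ⟩ := isConj_iff.mp h
  rcases Int.units_eq_one_or (Perm.sign σ) with h1 | h1
  · exact ⟨σ, h1, hσ⟩
  · refine ⟨σ * τ, by rw [map_mul, h1, hτ]; rfl, ?_⟩
    rw [show σ * τ * p * (σ * τ)⁻¹ = σ * (τ * p * τ⁻¹) * σ⁻¹ by group, hc, hσ]

/-- The product of two transpositions. -/
def p22 : Perm (Fin 8) := swap 0 1 * swap 2 3

/-- The product of four transpositions. -/
def p2222 : Perm (Fin 8) := swap 0 1 * swap 2 3 * swap 4 5 * swap 6 7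

theorem cycleType_involution {q : Perm (Fin 8)} (hq : q * q = 1) (h1 : q ≠ 1) (hs : Perm.sign q = 1) :
    (q.cycleType = Multiset.replicate 2 2 ∧ ∃ x, q x = x) ∨
      (q.cycleType = Multiset.replicate 4 2 ∧ ∀ x, q x ≠ x) := by
  haveI := Fact.mk Nat.prime_two
  have hall := Perm.pow_prime_eq_one_iff.mp (show q ^ 2 = 1 by rw [pow_two, hq])
  have hrep : q.cycleType = Multiset.replicate (Multiset.card q.cycleType) 2 :=
    Multiset.eq_replicate_card.mpr hall
  have hpos : 0 < Multiset.card q.cycleType := Perm.card_cycleType_pos.mpr h1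
  have hsum := q.sum_cycleType
  have hle := q.sum_cycleType_le
  have hsign := q.sign_of_cycleType
  rw [hs] at hsign
  set k := Multiset.card q.cycleType
  rw [hrep, Multiset.sum_replicate, smul_eq_mul] at hsum hle hsign
  rw [Fintype.card_fin] at hle
  have hk : k = 2 ∨ k = 4 := by
    rcases (by omega : k = 1 ∨ k = 2 ∨ k = 3 ∨ k = 4) with h | h | h | h <;> rw [h] at hsign <;>
      first | exact Or.inl h | exact Or.inr h | exact absurd hsign (by decide)
  rcases hk with h | h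
  · refine Or.inl ⟨by rw [hrep, h], by_contra fun hx => ?_⟩
    push Not at hx
    have : q.support = Finset.univ := Finset.eq_univ_of_forall fun x => Perm.mem_support.mpr (hx x)
    rw [this, h, Finset.card_univ, Fintype.card_fin] at hsum
    omega
  · refine Or.inr ⟨by rw [hrep, h], fun x hx => ?_⟩
    have hsub : q.support ⊆ Finset.univ.erase x := fun y hy =>
      Finset.mem_erase.mpr ⟨fun e => Perm.mem_support.mp hy (e ▸ hx), Finset.mem_univ y⟩
    have := Finset.card_le_card hsub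
    rw [Finset.card_erase_of_mem (Finset.mem_univ x), Finset.card_univ, Fintype.card_fin] at this
    omega

theorem p22_facts : p22 * p22 = 1 ∧ p22 ≠ 1 ∧ Perm.sign p22 = 1 ∧ p22 4 = 4 ∧
    swap 0 1 * p22 * (swap 0 1 : Perm (Fin 8))⁻¹ = p22 ∧ Perm.sign (swap (0 : Fin 8) 1) = -1 := by
  decide +kernel

theorem p2222_facts : p2222 * p2222 = 1 ∧ p2222 ≠ 1 ∧ Perm.sign p2222 = 1 ∧
    (∀ x, p2222 x ≠ x) ∧ swap 0 1 * p2222 * (swap 0 1 : Perm (Fin 8))⁻¹ = p2222 := by
  decide +kernel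

/-- The involutions with a fixed point are even-conjugate. -/
theorem conj_p22 {q : Perm (Fin 8)} (hq : q * q = 1) (h1 : q ≠ 1) (hs : Perm.sign q = 1)
    (hx : ∃ x, q x = x) : ∃ σ : Perm (Fin 8), Perm.sign σ = 1 ∧ σ * p22 * σ⁻¹ = q := by
  obtain ⟨a, b, c, d, e, f⟩ := p22_facts
  refine exists_even_conj (Perm.isConj_iff_cycleType_eq.mpr ?_) f e
  rcases cycleType_involution hq h1 hs with ⟨h, -⟩ | ⟨-, h⟩
  · rcases cycleType_involution a b c with ⟨h', -⟩ | ⟨-, h'⟩
    · rw [h, h']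
    · exact absurd d (h' 4)
  · obtain ⟨x, hx⟩ := hx; exact absurd hx (h x)

/-- The involutions without fixed points are even-conjugate. -/
theorem conj_p2222 {q : Perm (Fin 8)} (hq : q * q = 1) (hs : Perm.sign q = 1)
    (hx : ∀ x, q x ≠ x) : ∃ σ : Perm (Fin 8), Perm.sign σ = 1 ∧ σ * p2222 * σ⁻¹ = q := by
  obtain ⟨a, b, c, d, e⟩ := p2222_facts
  refine exists_even_conj (Perm.isConj_iff_cycleType_eq.mpr ?_) p22_facts.2.2.2.2.2 e
  have h1 : q ≠ 1 := fun h => hx 0 (by rw [h]; rfl)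
  rcases cycleType_involution hq h1 hs with ⟨-, x, h⟩ | ⟨h, -⟩
  · exact absurd h (hx x)
  · rcases cycleType_involution a b c with ⟨-, x, h'⟩ | ⟨h', -⟩
    · exact absurd h' (d x)
    · rw [h, h']

/-- A translation. -/
def tr (v : Fin 8) : Perm (Fin 8) :=
  Function.Involutive.toPerm (fun x => x ^^^ v) (show ∀ x : Fin 8, x ^^^ v ^^^ v = x by revert v; decide)

theorem tr_mul : ∀ u v : Fin 8, tr u * tr v = tr (u ^^^ v) := by decide +kernel

theorem tr_apply (v x : Fin 8) : tr v x = x ^^^ v := rfl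

theorem tr_inj {u v : Fin 8} (h : tr u = tr v) : u = v := by
  have h0 := congrArg (fun σ : Perm (Fin 8) => σ 0) h
  have hz : ∀ z : Fin 8, 0 ^^^ z = z := by decide
  simpa [tr_apply, hz] using h0

theorem tr_inv : ∀ v : Fin 8, (tr v)⁻¹ = tr v := by decide +kernel

theorem tr_zero : tr 0 = 1 := by decide +kernel

/-- The translations. -/
def X : Subgroup (Perm (Fin 8)) where
  carrier := Set.range tr
  mul_mem' := by rintro _ _ ⟨u, rfl⟩ ⟨v, rfl⟩; exact ⟨u ^^^ v, (tr_mul u v).symm⟩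
  one_mem' := ⟨0, tr_zero⟩
  inv_mem' := by rintro _ ⟨u, rfl⟩; exact ⟨u, (tr_inv u).symm⟩

theorem card_X : Nat.card X = 8 := by
  have h : Function.Bijective (fun v : Fin 8 => (⟨tr v, v, rfl⟩ : X)) :=
    ⟨fun u v h => tr_inj (congrArg Subtype.val h), fun ⟨x, v, hv⟩ => ⟨v, Subtype.ext hv⟩⟩
  simpa using (Nat.card_eq_of_bijective _ h).symm

/-- A fixed-point-free elementary subgroup of order eight is conjugate to the translations. -/
theorem exists_conj_eq_X (H : Subgroup (Perm (Fin 8))) (hcard : Nat.card H = 8)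
    (hsq : ∀ h ∈ H, h * h = 1) (hfix : ∀ h ∈ H, h ≠ 1 → ∀ x, h x ≠ x) :
    ∃ σ : Perm (Fin 8), X.map (MulAut.conj σ).toMonoidHom = H := by
  classical
  have hbij : Function.Bijective (fun h : H => h.1 0) := by
    refine Function.Injective.bijective_of_nat_card_le (fun h k hhk => ?_) (by rw [hcard, Nat.card_fin])
    by_contra hne
    refine hfix _ (mul_mem (inv_mem k.2) h.2) (fun h0 => hne (Subtype.ext (inv_mul_eq_one.mp h0).symm)) 0 ?_
    show k.1⁻¹ (h.1 0) = 0
    rw [show h.1 0 = k.1 0 from hhk]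
    exact Equiv.symm_apply_apply k.1 0
  have hcomm : ∀ x ∈ H, ∀ y ∈ H, x * y = y * x := fun x hx y hy => by
    have h1 := hsq _ (mul_mem hx hy)
    calc x * y = (x * y)⁻¹ := (inv_eq_of_mul_eq_one_right h1).symm
      _ = y⁻¹ * x⁻¹ := mul_inv_rev x y
      _ = y * x := by rw [inv_eq_of_mul_eq_one_right (hsq x hx), inv_eq_of_mul_eq_one_right (hsq y hy)]
  obtain ⟨⟨a, ha⟩, ha0⟩ := hbij.2 1
  replace ha0 : a 0 = 1 := ha0
  obtain ⟨⟨b, hb⟩, hb0⟩ := hbij.2 2
  replace hb0 : b 0 = 2 := hb0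
  obtain ⟨x, hx⟩ : ∃ x : Fin 8, x ∉ ({0, 1, 2, a 2} : Finset (Fin 8)) := by
    refine by_contra fun h => ?_
    push Not at h
    have hle := Finset.card_le_card (show (Finset.univ : Finset (Fin 8)) ⊆ {0, 1, 2, a 2} from fun y _ => h y)
    have : ({0, 1, 2, a 2} : Finset (Fin 8)).card ≤ 4 :=
      (Finset.card_insert_le _ _).trans (Nat.succ_le_succ ((Finset.card_insert_le _ _).trans
        (Nat.succ_le_succ ((Finset.card_insert_le _ _).trans (by simp)))))
    simp at hle
    omega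
  simp only [Finset.mem_insert, Finset.mem_singleton, not_or] at hx
  obtain ⟨⟨c, hc⟩, hc0⟩ := hbij.2 x
  replace hc0 : c 0 = x := hc0
  let pk : Bool → Perm (Fin 8) → Perm (Fin 8) := fun p g => bif p then g else 1
  let w : Fin 8 → Perm (Fin 8) := fun v =>
    pk (Nat.testBit v.1 0) a * pk (Nat.testBit v.1 1) b * pk (Nat.testBit v.1 2) c
  have hwH : ∀ v, w v ∈ H := fun v => by
    simp only [w, pk]
    cases Nat.testBit v.1 0 <;> cases Nat.testBit v.1 1 <;> cases Nat.testBit v.1 2 <;>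
      simp [ha, hb, hc, mul_mem]
  have sa := hsq a ha
  have sb := hsq b hb
  have sc := hsq c hc
  have hw : ∀ u v, w (u ^^^ v) = w u * w v := by
    intro u v
    have hbit : ∀ i, i < 3 → Nat.testBit (u ^^^ v).1 i = (Nat.testBit u.1 i ^^ Nat.testBit v.1 i) := by
      intro i hi
      interval_cases i <;> revert u v <;> decide
    have hpm : ∀ (p : Bool) (g : Perm (Fin 8)), g ∈ H → pk p g ∈ H := fun p g hg => by
      cases p <;> simp [pk, hg]
    have hpx : ∀ (p q : Bool) (g : Perm (Fin 8)), g * g = 1 → pk (p ^^ q) g = pk p g * pk q g :=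
      fun p q g hg => by cases p <;> cases q <;> simp [pk, hg]
    simp only [w, hbit 0 (by norm_num), hbit 1 (by norm_num), hbit 2 (by norm_num), hpx _ _ _ sa,
      hpx _ _ _ sb, hpx _ _ _ sc]
    generalize Nat.testBit u.1 0 = p0, Nat.testBit u.1 1 = p1, Nat.testBit u.1 2 = p2,
      Nat.testBit v.1 0 = q0, Nat.testBit v.1 1 = q1, Nat.testBit v.1 2 = q2
    have m : ∀ p q r s : Perm (Fin 8), q ∈ H → r ∈ H → p * q * (r * s) = p * r * (q * s) := by
      intro p q r s hq hr
      rw [mul_assoc, ← mul_assoc q, hcomm q hq r hr, mul_assoc r, ← mul_assoc]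
    rw [m _ (pk q0 a) _ _ (hpm q0 _ ha) (hpm p1 _ hb), m _ (pk q0 a * pk q1 b) _ _ (mul_mem (hpm q0 _ ha) (hpm q1 _ hb)) (hpm p2 _ hc)]
  have hw0 : w 0 = 1 := by simp [w, pk]
  let s : Fin 8 → Fin 8 := fun v => w v 0
  have hne : ∀ v : Fin 8, v ≠ 0 → s v ≠ 0 := by
    intro v hv
    have hcases : v = 1 ∨ v = 2 ∨ v = 3 ∨ v = 4 ∨ v = 5 ∨ v = 6 ∨ v = 7 := by revert v; decide
    have e3 : a (b 0) ≠ 0 := fun h => by
      have := congrArg a h
      rw [← Perm.mul_apply, sa, Perm.one_apply, ha0, hb0] at this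
      exact absurd this (by decide)
    have e5 : a (c 0) ≠ 0 := fun h => by
      have := congrArg a h
      rw [← Perm.mul_apply, sa, Perm.one_apply, ha0, hc0] at this
      exact hx.2.1 this
    have e6 : b (c 0) ≠ 0 := fun h => by
      have := congrArg b h
      rw [← Perm.mul_apply, sb, Perm.one_apply, hb0, hc0] at this
      exact hx.2.2.1 this
    have e7 : a (b (c 0)) ≠ 0 := fun h => by
      have := congrArg a h
      rw [← Perm.mul_apply, sa, Perm.one_apply, ha0] at this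
      have h' := congrArg b this
      rw [← Perm.mul_apply, sb, Perm.one_apply, hc0] at h'
      have hab : b (a 0) = a (b 0) := congrArg (fun g : Perm (Fin 8) => g 0) (hcomm b hb a ha)
      rw [ha0, hb0] at hab
      exact hx.2.2.2 (h'.trans hab)
    rcases hcases with rfl | rfl | rfl | rfl | rfl | rfl | rfl <;>
      simp [s, w, pk, Nat.testBit_succ, ha0, hb0, hc0] <;>
      first
        | exact hx.1
        | simpa [ha0, hb0, hc0] using e3
        | simpa [ha0, hb0, hc0] using e5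
        | simpa [ha0, hb0, hc0] using e6
        | simpa [ha0, hb0, hc0] using e7
  have hsinj : Function.Injective s := by
    intro u v huv
    have hxor : ∀ p q : Fin 8, p ^^^ q = 0 → p = q := by decide
    refine hxor _ _ (by_contra fun h0 => hne _ h0 ?_)
    show w (u ^^^ v) 0 = 0
    have hsv : w v (w v 0) = 0 := by rw [← Perm.mul_apply, hsq _ (hwH v)]; rfl
    rw [hw, hcomm _ (hwH u) _ (hwH v), Perm.mul_apply, show w u 0 = w v 0 from huv, hsv]
  let σ : Perm (Fin 8) := Equiv.ofBijective s (Finite.injective_iff_bijective.mp hsinj)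
  have hσ : ∀ v, σ * tr v * σ⁻¹ = w v := by
    intro v
    rw [mul_inv_eq_iff_eq_mul]
    ext y : 1
    show w (y ^^^ v) 0 = w v (w y 0)
    rw [hw, hcomm _ (hwH y) _ (hwH v)]
    rfl
  refine ⟨σ, Subgroup.eq_of_le_of_card_ge ?_ ?_⟩
  · rintro _ ⟨_, ⟨v, rfl⟩, rfl⟩
    show σ * tr v * σ⁻¹ ∈ H
    rw [hσ]; exact hwH v
  · rw [hcard, Subgroup.card_map_of_injective (MulAut.conj σ).injective, card_X]

/-- The centraliser of the translations. -/
theorem eq_tr_of_commute {q : Perm (Fin 8)} (h : ∀ v, q * tr v = tr v * q) : q = tr (q 0) := by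
  ext y : 1
  have hh := congrArg (fun g : Perm (Fin 8) => g 0) (h y)
  have hz : ∀ p z : Fin 8, 0 ^^^ z = z ∧ p ^^^ z = z ^^^ p := by decide
  simp only [Perm.mul_apply, tr_apply, (hz 0 y).1] at hh
  rw [hh, tr_apply, (hz (q 0) y).2]

/-- The frames. -/
abbrev Frames := {p : Fin 8 × Fin 8 × Fin 8 × Fin 8 //
  p.2.1 ≠ 0 ∧ p.2.2.1 ≠ 0 ∧ p.2.2.1 ≠ p.2.1 ∧ p.2.2.2 ≠ 0 ∧ p.2.2.2 ≠ p.2.1 ∧ p.2.2.2 ≠ p.2.2.1 ∧
    p.2.2.2 ≠ p.2.1 ^^^ p.2.2.1}

theorem card_frames : Nat.card Frames = 1344 := by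
  rw [Nat.card_eq_fintype_card]
  decide +kernel

theorem card_normalizer_X_le (P : Subgroup (Perm (Fin 8))) (hP : P ≤ Subgroup.normalizer (X : Set (Perm (Fin 8)))) :
    Nat.card P ≤ 1344 := by
  classical
  have hex : ∀ (n : P) (v : Fin 8), ∃ u, n.1 * tr v * n.1⁻¹ = tr u := fun n v => by
    obtain ⟨u, hu⟩ := (Subgroup.mem_normalizer_iff.mp (hP n.2) (tr v)).mp ⟨v, rfl⟩
    exact ⟨u, hu.symm⟩
  choose f hf using hex
  have hlin : ∀ n u v, f n (u ^^^ v) = f n u ^^^ f n v := fun n u v => tr_inj (by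
    rw [← hf, ← tr_mul, ← tr_mul, ← hf, ← hf]; group)
  have hinj : ∀ n u v, f n u = f n v → u = v := fun n u v h => tr_inj (by
    have := (hf n u).trans ((congrArg tr h).trans (hf n v).symm)
    exact mul_left_cancel (mul_right_cancel this))
  have h0 : ∀ n, f n 0 = 0 := fun n => tr_inj (by rw [← hf, tr_zero]; simp)
  have hne : ∀ n (u v : Fin 8), u ≠ v → f n u ≠ f n v := fun n u v h e => h (hinj n u v e)
  let g : P → Frames := fun n => ⟨(n.1 0, f n 1, f n 2, f n 4), by
    refine ⟨?_, ?_, hne n _ _ (by decide), ?_, hne n _ _ (by decide), hne n _ _ (by decide), ?_⟩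
    · exact h0 n ▸ hne n _ _ (by decide)
    · exact h0 n ▸ hne n _ _ (by decide)
    · exact h0 n ▸ hne n _ _ (by decide)
    · show f n 4 ≠ f n 1 ^^^ f n 2
      rw [← hlin]; exact hne n _ _ (by decide)⟩
  have hg : Function.Injective g := by
    intro m n h
    have h' : (m.1 0, f m 1, f m 2, f m 4) = (n.1 0, f n 1, f n 2, f n 4) := congrArg Subtype.val h
    simp only [Prod.mk.injEq] at h'
    obtain ⟨e, e1, e2, e4⟩ := h'
    have hv : ∀ v : Fin 8, f m v = f n v := fun v => by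
      have hdec : v = 0 ∨ v = 1 ∨ v = 2 ∨ v = 1 ^^^ 2 ∨ v = 4 ∨ v = 1 ^^^ 4 ∨ v = 2 ^^^ 4 ∨
          v = 1 ^^^ 2 ^^^ 4 := by revert v; decide
      rcases hdec with rfl | rfl | rfl | rfl | rfl | rfl | rfl | rfl <;>
        simp only [hlin, h0, e1, e2, e4]
    refine Subtype.ext (Equiv.ext fun v => ?_)
    have key : ∀ k : P, k.1 v = k.1 0 ^^^ f k v := fun k => by
      have hh := congrArg (fun g : Perm (Fin 8) => g (k.1 0)) (hf k v)
      have hz : ∀ z : Fin 8, 0 ^^^ z = z := by decide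
      simpa [Perm.mul_apply, tr_apply, hz] using hh
    rw [key, key, e, hv]
  exact (Nat.card_le_card_of_injective g hg).trans card_frames.le

end Cfsg.Agent.McLType
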