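import Cfsg.Agent.Lib.McLType.Model
import Cfsg.Agent.Lib.McLType.Perm8
import Cfsg.Agent.Lib.DoubleCoverAlt.Multiplier

/-!
# A non-split double cover of `A₈` is the group on 240 points

* `Cov` : the hypotheses
* `Cov.exists_model` : a faithful action with the five letters at the given permutations
-/

set_option autoImplicit false
set_option linter.style.haveILetI false

namespace Cfsg.Agent.McLType

open Equiv

/-- A non-split double cover of `A₈`. -/
structure Cov (C : Type*) [Group C] where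
  π : C →* Perm (Fin 8)
  t : C
  hrange : π.range = alternatingGroup (Fin 8)
  hker : ∀ x, π x = 1 ↔ x = 1 ∨ x = t
  htt : t * t = 1
  ht1 : t ≠ 1
  hcen : ∀ x, Commute t x
  hns : ∀ K : Subgroup C, ¬ π.ker.IsComplement' K

/-- The Moore generators. -/
abbrev g8 (i : ℕ) : Perm (Fin 8) := DoubleCoverAlt.gen 5 i

theorem g8_facts : ∀ i : Fin 6, 1 ≤ i.1 →
    g8 i * g8 i = 1 ∧ g8 i ≠ 1 ∧ Perm.sign (g8 i) = 1 ∧ ∃ x, g8 i x = x := by decide +kernel

theorem g8_far : ∀ i j : Fin 6, i.1 + 1 < j.1 →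
    g8 i * g8 j * (g8 i * g8 j) = 1 ∧ g8 i * g8 j ≠ 1 ∧ Perm.sign (g8 i * g8 j) = 1 ∧
      ∃ x, (g8 i * g8 j) x = x := by decide +kernel

/-- The image of a letter. -/
def pi5 (l : ℕ) : Perm (Fin 8) := ev g8 (lw l)

theorem pi5_spec : ∀ l : Fin 5, ∀ x : Fin 8, (pi5 l x).1 = (piTab.getD l.1 []).getD x.1 0 := by
  decide +kernel

/-- The relations of the lifts in the action. -/
theorem yP_rels : (∀ j : Fin 6, ∀ x : Fin 240,
    (yP 1 * yP 1 * yP j) x = (yP j * (yP 1 * yP 1)) x) ∧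
    (∀ x : Fin 240, (yP 0 * yP 0 * yP 0) x = x) ∧
    (∀ i : Fin 6, 1 ≤ i.1 → ∀ x : Fin 240, (yP i * yP i) x = (yP 1 * yP 1) x) ∧
    (∀ i : Fin 5, ∀ x : Fin 240,
      (yP i * yP (i.1 + 1) * (yP i * yP (i.1 + 1)) * (yP i * yP (i.1 + 1))) x = x) ∧
    (∀ i j : Fin 6, i.1 + 1 < j.1 → ∀ x : Fin 240,
      (yP i * yP j * (yP i * yP j)) x = (yP 1 * yP 1) x) ∧
    (∀ x : Fin 240, (yP 1 * yP 1 * (yP 1 * yP 1)) x = x) ∧ (yP 1 * yP 1) 0 ≠ 0 := by
  decide +kernel

theorem gen_spec : ∀ i : Fin 6, ∀ x : Fin 240, ev p5 (genWord.getD i.1 []) x = yP i x := by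
  intro i x
  rw [ev_p5_apply]
  revert i x
  decide +kernel

namespace Cov

variable {C : Type*} [Group C] (K : Cov C)

theorem t_inv : K.t⁻¹ = K.t := inv_eq_of_mul_eq_one_right K.htt

theorem eq_of_map {x y : C} (h : K.π x = K.π y) : x = y ∨ x = y * K.t := by
  have : K.π (y⁻¹ * x) = 1 := by rw [map_mul, map_inv, h, inv_mul_cancel]
  rcases (K.hker _).mp this with h1 | h1
  · exact Or.inl (inv_mul_eq_one.mp h1).symm
  · exact Or.inr (by rw [← h1, mul_inv_cancel_left])

theorem exists_pre {q : Perm (Fin 8)} (hq : Perm.sign q = 1) : ∃ x, K.π x = q := by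
  have : q ∈ K.π.range := by rw [K.hrange, Perm.mem_alternatingGroup]; exact hq
  exact this

theorem sign_map (x : C) : Perm.sign (K.π x) = 1 := by
  have : K.π x ∈ alternatingGroup (Fin 8) := K.hrange ▸ ⟨x, rfl⟩
  exact Perm.mem_alternatingGroup.mp this

theorem map_t : K.π K.t = 1 := (K.hker _).mpr (Or.inr rfl)

theorem conj_sq {x y : C} (hy : ∃ σ : Perm (Fin 8), Perm.sign σ = 1 ∧ σ * K.π x * σ⁻¹ = K.π y)
    (hx : x * x = 1 ∨ x * x = K.t) : y * y = x * x := by
  obtain ⟨σ, hσ, hxy⟩ := hy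
  obtain ⟨s, hs⟩ := K.exists_pre hσ
  have hz : Commute (x * x) s := by
    rcases hx with h | h <;> rw [h]
    · exact Commute.one_left _
    · exact K.hcen s
  have hπ : K.π y = K.π (s * x * s⁻¹) := by rw [map_mul, map_mul, map_inv, hs, hxy]
  have hsq : s * x * s⁻¹ * (s * x * s⁻¹) = x * x := by
    rw [show s * x * s⁻¹ * (s * x * s⁻¹) = s * (x * x) * s⁻¹ by group, ← hz.eq, mul_inv_cancel_right]
  rcases K.eq_of_map hπ with h | h
  · rw [h, hsq]
  · rw [h, show s * x * s⁻¹ * K.t * (s * x * s⁻¹ * K.t) = s * x * s⁻¹ * (s * x * s⁻¹) * (K.t * K.t) by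
      rw [(K.hcen (s * x * s⁻¹)).symm.mul_mul_mul_comm], hsq, K.htt, mul_one]

/-- Lifts of the Moore generators with the cube relations. -/
theorem exists_lifts : ∃ y : ℕ → C, (∀ i, i < 6 → K.π (y i) = g8 i) ∧ y 0 ^ 3 = 1 ∧
    ∀ i, i + 1 < 6 → (y i * y (i + 1)) ^ 3 = 1 := by
  classical
  have hpre : ∀ i : ℕ, ∃ x : C, i < 6 → K.π x = g8 i := fun i => by
    by_cases h : i < 6
    · obtain ⟨x, hx⟩ := K.exists_pre (Perm.mem_alternatingGroup.mp (DoubleCoverAlt.gen_mem (k := 5) h))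
      exact ⟨x, fun _ => hx⟩
    · exact ⟨1, fun h' => absurd h' h⟩
  choose x hx using hpre
  let y : ℕ → C := fun n => Nat.rec (if x 0 ^ 3 = 1 then x 0 else x 0 * K.t)
    (fun i yi => if (yi * x (i + 1)) ^ 3 = 1 then x (i + 1) else x (i + 1) * K.t) n
  have key : ∀ (u : C), K.π u ^ 3 = 1 → u ^ 3 = 1 ∨ (u * K.t) ^ 3 = 1 := by
    intro u hu
    rw [← map_pow] at hu
    rcases (K.hker _).mp hu with h | h
    · exact Or.inl h
    · refine Or.inr ?_
      rw [(K.hcen u).symm.mul_pow, h, pow_succ, pow_two, K.htt, one_mul, K.htt]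
  have hπ : ∀ i, i < 6 → K.π (y i) = g8 i := by
    intro i hi
    cases i with
    | zero =>
      show K.π (if x 0 ^ 3 = 1 then x 0 else x 0 * K.t) = _
      split_ifs <;> simp [hx 0 hi, K.map_t]
    | succ i =>
      show K.π (if (y i * x (i + 1)) ^ 3 = 1 then x (i + 1) else x (i + 1) * K.t) = _
      split_ifs <;> simp [hx (i + 1) hi, K.map_t]
  have hr := DoubleCoverAlt.rels_gen 5
  refine ⟨y, hπ, ?_, fun i hi => ?_⟩
  · show (if x 0 ^ 3 = 1 then x 0 else x 0 * K.t) ^ 3 = 1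
    split_ifs with h
    · exact h
    · exact (key _ (by rw [hx 0 (by norm_num)]; exact hr.cube (by norm_num))).resolve_left h
  · show (y i * if (y i * x (i + 1)) ^ 3 = 1 then x (i + 1) else x (i + 1) * K.t) ^ 3 = 1
    split_ifs with h
    · exact h
    · rw [← mul_assoc]
      exact (key _ (by rw [map_mul, hπ i (by omega), hx (i + 1) hi]; exact hr.adj i hi)).resolve_left h

include K in
theorem card_C [Finite C] : Nat.card C = 40320 := by
  have hk : Nat.card K.π.ker = 2 := by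
    let f : Fin 2 → K.π.ker := ![⟨1, one_mem _⟩, ⟨K.t, K.map_t⟩]
    have hb : Function.Bijective f := by
      refine ⟨fun i j h => ?_, fun ⟨x, hx⟩ => ?_⟩
      · fin_cases i <;> fin_cases j <;> simp [f] at h ⊢ <;>
          first | exact K.ht1 (congrArg Subtype.val h).symm | exact K.ht1 (congrArg Subtype.val h)
      · rcases (K.hker x).mp hx with rfl | rfl
        · exact ⟨0, rfl⟩
        · exact ⟨1, rfl⟩
    simpa using (Nat.card_eq_of_bijective f hb).symm
  have hA : Nat.card (alternatingGroup (Fin 8)) = 20160 := by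
    have := two_mul_card_alternatingGroup (α := Fin 8)
    rw [Fintype.card_perm, Fintype.card_fin] at this
    rw [Nat.card_eq_fintype_card]
    rw [show Nat.factorial 8 = 40320 from by decide] at this
    omega
  rw [← K.π.ker.card_mul_index, hk, Subgroup.index_ker, K.hrange, hA]

theorem closure_le_card [Finite C] (S : Subgroup C) (h : ∀ i, i < 6 → g8 i ∈ S.map K.π) :
    20160 ≤ Nat.card S ∧ S.map K.π = alternatingGroup (Fin 8) := by
  have hle : alternatingGroup (Fin 8) ≤ S.map K.π := fun q hq =>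
    (Subgroup.closure_le _).mpr (by rintro _ ⟨i, hi, rfl⟩; exact h i hi)
      (DoubleCoverAlt.mem_closure_gens 5 hq)
  have heq : S.map K.π = alternatingGroup (Fin 8) :=
    le_antisymm (K.hrange ▸ Subgroup.map_le_range K.π S) hle
  refine ⟨?_, heq⟩
  have hA : Nat.card (alternatingGroup (Fin 8)) * 2 = Nat.card C := by
    rw [K.card_C]
    have := two_mul_card_alternatingGroup (α := Fin 8)
    rw [Fintype.card_perm, Fintype.card_fin] at this
    rw [Nat.card_eq_fintype_card]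
    rw [show Nat.factorial 8 = 40320 from by decide] at this
    omega
  have := Nat.card_le_card_of_surjective (K.π.subgroupMap S) (K.π.subgroupMap_surjective S)
  rw [heq] at this
  rw [K.card_C] at hA
  omega

theorem no_small [Finite C] (S : Subgroup C) (h : ∀ i, i < 6 → g8 i ∈ S.map K.π)
    (ht : K.t ∉ S) : False := by
  obtain ⟨-, heq⟩ := K.closure_le_card S h
  refine K.hns S (Subgroup.isComplement'_of_disjoint_and_mul_eq_univ ?_ ?_)
  · rw [disjoint_iff, eq_bot_iff]
    rintro x ⟨hx, hxS⟩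
    rcases (K.hker x).mp hx with rfl | rfl
    · exact one_mem _
    · exact absurd hxS ht
  · refine Set.eq_univ_of_forall fun x => ?_
    obtain ⟨s, hs, hsx⟩ := (heq ▸ K.hrange ▸ ⟨x, rfl⟩ : K.π x ∈ S.map K.π)
    refine ⟨x * s⁻¹, ?_, s, hs, inv_mul_cancel_right x s⟩
    show K.π (x * s⁻¹) = 1
    rw [map_mul, map_inv, hsx, mul_inv_cancel]

theorem exists_model [Finite C] : ∃ (φ : C →* Perm (Fin 240)) (f : ℕ → C),
    Function.Injective φ ∧ (∀ l, φ (f l) = p5 l) ∧ (∀ l, K.π (f l) = pi5 l) ∧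
      Subgroup.closure {f 0, f 1, f 3} = ⊤ := by
  classical
  obtain ⟨y, hyπ, hy0, hadj⟩ := K.exists_lifts
  have hr := DoubleCoverAlt.rels_gen 5
  have hmap : ∀ S : Subgroup C, (∀ i, i < 6 → y i ∈ S) → ∀ i, i < 6 → g8 i ∈ S.map K.π :=
    fun S h i hi => ⟨y i, h i hi, hyπ i hi⟩
  have hy1k : y 1 * y 1 = 1 ∨ y 1 * y 1 = K.t := by
    refine (K.hker _).mp ?_
    rw [map_mul, hyπ 1 (by norm_num)]
    exact (g8_facts ⟨1, by norm_num⟩ (le_refl 1)).1
  have hlift : ∀ (u : C) (q : Perm (Fin 8)), K.π u = q → q * q = 1 → q ≠ 1 → Perm.sign q = 1 →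
      (∃ x, q x = x) → u * u = y 1 * y 1 := by
    intro u q hu h1 h2 h3 h4
    obtain ⟨a1, a2, a3, a4⟩ := g8_facts ⟨1, by norm_num⟩ (le_refl 1)
    obtain ⟨σ, hσ, hσe⟩ := conj_p22 h1 h2 h3 h4
    obtain ⟨ρ, hρ, hρe⟩ := conj_p22 a1 a2 a3 a4
    refine K.conj_sq ⟨σ * ρ⁻¹, by rw [map_mul, map_inv, hσ, hρ]; rfl, ?_⟩ hy1k
    rw [hu, hyπ 1 (by norm_num), ← hσe]
    show σ * ρ⁻¹ * g8 1 * (σ * ρ⁻¹)⁻¹ = _
    rw [← hρe]
    group
  have hsq : ∀ i, 1 ≤ i → i < 6 → y i * y i = y 1 * y 1 := fun i h1 h6 => by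
    obtain ⟨a1, a2, a3, a4⟩ := g8_facts ⟨i, h6⟩ h1
    exact hlift _ _ (hyπ i h6) a1 a2 a3 a4
  have hfar : ∀ i j, i + 1 < j → j < 6 → y i * y j * (y i * y j) = y 1 * y 1 := fun i j h1 h6 => by
    obtain ⟨a1, a2, a3, a4⟩ := g8_far ⟨i, by omega⟩ ⟨j, h6⟩ h1
    exact hlift _ _ (by rw [map_mul, hyπ i (by omega), hyπ j h6]) a1 a2 a3 a4
  have hy1 : y 1 * y 1 = K.t := by
    rcases hy1k with h | h
    · exfalso
      have hrel : S3335.Rels y 6 := ⟨fun _ => hy0, fun i h1 h2 => by rw [pow_two, hsq i h1 h2, h],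
        fun i h2 => hadj i h2, fun i j h1 h2 => by rw [pow_two, hfar i j h1 h2, h]⟩
      obtain ⟨-, hcard⟩ := S3335.card_le 6 hrel
      set S := Subgroup.closure (y '' Set.Iio 6)
      have hm := hmap S fun i hi => Subgroup.subset_closure ⟨i, hi, rfl⟩
      refine K.no_small S hm fun ht => ?_
      have h20 : Nat.card S ≤ 20160 := by norm_num [Nat.factorial] at hcard; omega
      have htop : 40320 ≤ Nat.card S := by
        obtain ⟨-, heq⟩ := K.closure_le_card S hm
        have hall : (⊤ : Subgroup C) ≤ S := fun x _ => by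
          obtain ⟨s, hs, hsx⟩ := (heq ▸ K.hrange ▸ ⟨x, rfl⟩ : K.π x ∈ S.map K.π)
          rcases K.eq_of_map hsx.symm with h | h
          · exact h ▸ hs
          · exact h ▸ mul_mem hs ht
        rw [top_le_iff.mp hall, Subgroup.card_top, K.card_C]
      omega
    · exact h
  -- the graph of the map
  let pr : ℕ → C × Perm (Fin 240) := fun i => (y i, yP i)
  set R := Subgroup.closure (pr '' Set.Iio 6) with hR
  let xs : ℕ → R := fun i => if h : i < 6 then ⟨pr i, Subgroup.subset_closure ⟨i, h, rfl⟩⟩ else 1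
  have hxs : ∀ i, i < 6 → (xs i : C × Perm (Fin 240)) = pr i := fun i hi => by simp [xs, hi]
  obtain ⟨rc, r0, r2, radj, rfar, r4, rne⟩ := yP_rels
  set z : R := xs 1 * xs 1 with hz
  have hzval : (z : C × Perm (Fin 240)) = (K.t, yP 1 * yP 1) := by
    rw [hz, Subgroup.coe_mul, hxs 1 (by norm_num)]
    exact Prod.ext hy1 rfl
  have hzc : ∀ r : R, Commute z r := by
    intro r
    have hcl : R ≤ Subgroup.centralizer {(z : C × Perm (Fin 240))} := by
      refine (Subgroup.closure_le _).mpr ?_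
      rintro _ ⟨i, hi, rfl⟩
      rw [SetLike.mem_coe, Subgroup.mem_centralizer_singleton_iff, hzval]
      exact Prod.ext (K.hcen _).eq.symm (Equiv.ext fun x => (rc ⟨i, hi⟩ x).symm)
    exact Subtype.ext (Subgroup.mem_centralizer_singleton_iff.mp (hcl r.2)).symm
  haveI : (Subgroup.zpowers z).Normal := by
    refine ⟨fun x hx g => ?_⟩
    obtain ⟨k, rfl⟩ := hx
    show g * z ^ k * g⁻¹ ∈ _
    rw [← ((hzc g).zpow_left k).eq, mul_inv_cancel_right]
    exact Subgroup.zpow_mem_zpowers z k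
  haveI : Finite R := Finite.of_injective _ Subtype.val_injective
  let xq : ℕ → R ⧸ Subgroup.zpowers z := fun i => QuotientGroup.mk (xs i)
  have hz1 : ∀ u : R, (u : C × Perm (Fin 240)) = z → QuotientGroup.mk (s := Subgroup.zpowers z) u = 1 :=
    fun u hu => (QuotientGroup.eq_one_iff u).mpr (Subtype.ext hu ▸ Subgroup.mem_zpowers z)
  have hrelq : S3335.Rels xq 6 := by
    refine ⟨fun _ => ?_, fun i h1 h2 => ?_, fun i h2 => ?_, fun i j h1 h2 => ?_⟩
    · rw [← QuotientGroup.mk_pow, show xs 0 ^ 3 = 1 from Subtype.ext ?_, QuotientGroup.mk_one]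
      rw [Subgroup.coe_pow, hxs 0 (by norm_num)]
      exact Prod.ext hy0 (Equiv.ext fun x => by
        show (yP 0 ^ 3) x = x
        rw [pow_three']; exact r0 x)
    · rw [← QuotientGroup.mk_pow]
      refine hz1 _ ?_
      rw [Subgroup.coe_pow, hxs i h2, hzval, pow_two]
      exact Prod.ext ((hsq i h1 h2).trans hy1) (Equiv.ext fun x => r2 ⟨i, h2⟩ h1 x)
    · rw [← QuotientGroup.mk_mul, ← QuotientGroup.mk_pow,
        show (xs i * xs (i + 1)) ^ 3 = 1 from Subtype.ext ?_, QuotientGroup.mk_one]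
      rw [Subgroup.coe_pow, Subgroup.coe_mul, hxs i (by omega), hxs (i + 1) h2]
      exact Prod.ext (hadj i h2) (Equiv.ext fun x => by
        show ((yP i * yP (i + 1)) ^ 3) x = x
        rw [pow_three']; exact radj ⟨i, by omega⟩ x)
    · rw [← QuotientGroup.mk_mul, ← QuotientGroup.mk_pow]
      refine hz1 _ ?_
      rw [Subgroup.coe_pow, Subgroup.coe_mul, hxs i (by omega), hxs j h2, hzval, pow_two]
      exact Prod.ext ((hfar i j h1 h2).trans hy1)
        (Equiv.ext fun x => rfar ⟨i, by omega⟩ ⟨j, h2⟩ h1 x)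
  obtain ⟨-, hq⟩ := S3335.card_le 6 hrelq
  have htopq : Subgroup.closure (xq '' Set.Iio 6) = ⊤ := by
    rw [eq_top_iff]
    rintro q -
    induction q using QuotientGroup.induction_on with
    | _ r =>
      have key : R ≤ ((Subgroup.closure (xq '' Set.Iio 6)).comap (QuotientGroup.mk' _)).map R.subtype := by
        refine (Subgroup.closure_le _).mpr ?_
        rintro _ ⟨i, hi, rfl⟩
        exact ⟨xs i, Subgroup.subset_closure ⟨i, hi, rfl⟩, hxs i hi⟩
      obtain ⟨r', hr', he⟩ := key r.2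
      have : r' = r := Subtype.ext he
      exact this ▸ hr'
  rw [htopq, Subgroup.card_top] at hq
  have hzord : Nat.card (Subgroup.zpowers z) ≤ 2 := by
    rw [Nat.card_zpowers]
    refine orderOf_le_of_pow_eq_one two_pos (Subtype.ext ?_)
    rw [Subgroup.coe_pow, hzval, pow_two]
    exact Prod.ext K.htt (Equiv.ext r4)
  have hcardR : Nat.card R ≤ 40320 := by
    rw [Subgroup.card_eq_card_quotient_mul_card_subgroup (Subgroup.zpowers z)]
    have h20 : Nat.card (R ⧸ Subgroup.zpowers z) ≤ 20160 := by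
      norm_num [Nat.factorial] at hq; omega
    calc Nat.card (R ⧸ Subgroup.zpowers z) * Nat.card (Subgroup.zpowers z) ≤ 20160 * 2 :=
          Nat.mul_le_mul h20 hzord
      _ = 40320 := by norm_num
  let p1 : R →* C := (MonoidHom.fst _ _).comp R.subtype
  have htop : Subgroup.closure (y '' Set.Iio 6) = ⊤ := by
    set S := Subgroup.closure (y '' Set.Iio 6)
    have hm := hmap S fun i hi => Subgroup.subset_closure ⟨i, hi, rfl⟩
    obtain ⟨-, heq⟩ := K.closure_le_card S hm
    have ht : K.t ∈ S := hy1 ▸ mul_mem (Subgroup.subset_closure ⟨1, by norm_num, rfl⟩)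
      (Subgroup.subset_closure ⟨1, by norm_num, rfl⟩)
    rw [eq_top_iff]
    intro x _
    obtain ⟨s, hs, hsx⟩ := (heq ▸ K.hrange ▸ ⟨x, rfl⟩ : K.π x ∈ S.map K.π)
    rcases K.eq_of_map hsx.symm with h | h
    · exact h ▸ hs
    · exact h ▸ mul_mem hs ht
  have hsurj : Function.Surjective p1 := by
    rw [← MonoidHom.range_eq_top, eq_top_iff, ← htop, Subgroup.closure_le]
    rintro _ ⟨i, hi, rfl⟩
    exact ⟨xs i, congrArg Prod.fst (hxs i hi)⟩
  have hbij : Function.Bijective p1 :=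
    hsurj.bijective_of_nat_card_le (hcardR.trans (K.card_C).ge)
  let e := MulEquiv.ofBijective p1 hbij
  let φ : C →* Perm (Fin 240) := ((MonoidHom.snd _ _).comp R.subtype).comp e.symm.toMonoidHom
  have hφy : ∀ i, i < 6 → φ (y i) = yP i := fun i hi => by
    show ((e.symm (y i)) : C × Perm (Fin 240)).2 = yP i
    rw [show e.symm (y i) = xs i from e.symm_apply_eq.mpr (congrArg Prod.fst (hxs i hi)).symm, hxs i hi]
  have hφt : φ K.t ≠ 1 := fun h => by
    rw [← hy1, map_mul, hφy 1 (by norm_num)] at h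
    exact rne (by rw [h]; rfl)
  have hinj : Function.Injective φ := by
    rw [← MonoidHom.ker_eq_bot_iff]
    have hnorm : (φ.ker.map (K.π.rangeRestrict)).Normal :=
      (MonoidHom.normal_ker φ).map _ K.π.rangeRestrict_surjective
    haveI : IsSimpleGroup K.π.range := by
      rw [K.hrange]; exact alternatingGroup.isSimpleGroup (by rw [Nat.card_eq_fintype_card]; simp)
    rcases hnorm.eq_bot_or_eq_top with h | h
    · rw [eq_bot_iff]
      intro x hx
      have hx1 : K.π x = 1 := by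
        have : K.π.rangeRestrict x ∈ φ.ker.map K.π.rangeRestrict := ⟨x, hx, rfl⟩
        rw [h, Subgroup.mem_bot] at this
        exact congrArg Subtype.val this
      rcases (K.hker x).mp hx1 with rfl | rfl
      · exact one_mem _
      · exact absurd hx hφt
    · refine (K.no_small φ.ker (fun i hi => ?_) hφt).elim
      have : K.π.rangeRestrict (y i) ∈ φ.ker.map K.π.rangeRestrict := h ▸ Subgroup.mem_top _
      obtain ⟨s, hs, hse⟩ := this
      exact ⟨s, hs, (congrArg Subtype.val hse).trans (hyπ i hi)⟩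
  have hwlt : ∀ l : ℕ, ∀ i ∈ lw l, i < 6 := by
    intro l i hi
    have : l < 5 := by
      by_contra h
      rw [lw, List.getD_eq_default _ _ (by simp [letterWord]; omega)] at hi
      simp at hi
    have hall : ∀ l : Fin 5, ∀ i ∈ lw l, i < 6 := by decide
    exact hall ⟨l, this⟩ i hi
  have hev : ∀ u : List ℕ, (∀ i ∈ u, i < 6) → φ (ev y u) = ev yP u ∧ K.π (ev y u) = ev g8 u := by
    intro u hu
    induction u with
    | nil => exact ⟨map_one φ, map_one K.π⟩
    | cons i u ih =>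
      obtain ⟨h1, h2⟩ := ih fun j hj => hu j (List.mem_cons_of_mem _ hj)
      rw [ev_cons, ev_cons, ev_cons, map_mul, map_mul, h1, h2, hφy i (hu i (by simp)),
        hyπ i (hu i (by simp))]
      exact ⟨rfl, rfl⟩
  let f : ℕ → C := fun l => ev y (lw l)
  have hf : ∀ l, φ (f l) = p5 l := fun l => (hev _ (hwlt l)).1
  refine ⟨φ, f, hinj, hf, fun l => (hev _ (hwlt l)).2, ?_⟩
  rw [eq_top_iff, ← htop, Subgroup.closure_le]
  rintro _ ⟨i, hi, rfl⟩
  have hyi : y i = ev f (genWord.getD i []) := by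
    refine hinj ?_
    have hm : ∀ w : List ℕ, φ (ev f w) = ev p5 w := fun w => by
      induction w with
      | nil => exact map_one φ
      | cons l w ih => rw [ev_cons, ev_cons, map_mul, ih, hf]
    rw [hm, hφy i hi]
    exact Equiv.ext fun x => (gen_spec ⟨i, hi⟩ x).symm
  rw [hyi]
  refine ev_mem _ _ _ fun l hl => ?_
  have hall : ∀ i : Fin 6, ∀ l ∈ genWord.getD i.1 [], l = 0 ∨ l = 1 ∨ l = 2 ∨ l = 3 ∨ l = 4 := by decide
  have h12 : ev p5 [1, 2] = ev p5 [] ∧ ev p5 [3, 4] = ev p5 [] :=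
    ⟨eq_of_eqOK (by decide +kernel), eq_of_eqOK (by decide +kernel)⟩
  have hinv : ∀ a b : ℕ, ev p5 [a, b] = ev p5 [] → f b = (f a)⁻¹ := fun a b h => by
    refine eq_inv_of_mul_eq_one_right (hinj ?_)
    rw [map_mul, hf, hf, map_one]
    simpa [ev] using h
  rcases hall ⟨i, hi⟩ l hl with rfl | rfl | rfl | rfl | rfl
  · exact Subgroup.subset_closure (by simp)
  · exact Subgroup.subset_closure (by simp)
  · rw [hinv 1 2 h12.1]; exact inv_mem (Subgroup.subset_closure (by simp))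
  · exact Subgroup.subset_closure (by simp)
  · rw [hinv 3 4 h12.2]; exact inv_mem (Subgroup.subset_closure (by simp))

end Cov

end Cfsg.Agent.McLType
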