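import Cfsg.Agent.Lib.McLType.Relators
import Cfsg.Agent.Lib.McLType.Bound
import Cfsg.Agent.Lib.Bender.Consumers
import Cfsg.Agent.Lib.Bender.RankOneHalf
import Cfsg.Agent.Lib.ZStar.Unique
import Cfsg.Agent.Lib.ZStar.Statements
import Cfsg.Agent.Lib.Leech.McLSimple
import Cfsg.Agent.Lib.Leech.McLFusion
import Cfsg.Agent.S2132

/-!
# Groups with an involution centraliser `2·A₈`

`recognise` : either the involution is central modulo the odd core or the group is McL.
-/

set_option autoImplicit false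
set_option linter.style.haveILetI false

namespace Cfsg.Agent.McLType

open Cfsg

variable {G : Type*} [Group G] [Finite G]

/-- An isolated involution is central modulo the odd core. -/
theorem core_central {z : G} (hz : orderOf z = 2) (hiso : IsIsolatedInvolution z) :
    Subgroup.centralizer ({z} : Set G) ⊔ oddCore G = ⊤ := by
  rw [eq_top_iff]
  intro g _
  set O := oddCore G
  haveI : O.Normal := Cores.pPrimeCore_normal 2 G
  set u := g * z * g⁻¹ * z⁻¹ with hudef
  set w := g * z * g⁻¹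
  have hu : u ∈ O := by
    have h := ZStar.zStar_of_brauerSuzuki ZStar.uniqueInvolution hiso g
    rw [hudef, show w * z⁻¹ = (z * g * z⁻¹ * g⁻¹)⁻¹ by simp only [w]; group]
    exact inv_mem h
  obtain ⟨i, hi⟩ : Odd (orderOf u) :=
    (Nat.coprime_two_right.1 (Cores.coprime_card_pPrimeCore 2)).of_dvd_nat (Subgroup.orderOf_dvd_natCard O hu)
  have hzz : z * z = 1 := by rw [← pow_two, ← hz, pow_orderOf_eq_one]
  have hww : w * w = 1 := by
    show g * z * g⁻¹ * (g * z * g⁻¹) = 1
    rw [show g * z * g⁻¹ * (g * z * g⁻¹) = g * (z * z) * g⁻¹ by group, hzz, mul_one, mul_inv_cancel]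
  have hzi : z⁻¹ = z := inv_eq_of_mul_eq_one_right hzz
  have huw : u = w * z := by rw [hudef, hzi]
  have hinv : z * u * z⁻¹ = u⁻¹ := by
    rw [huw, mul_inv_rev, hzi, inv_eq_of_mul_eq_one_right hww, ← mul_assoc z w z, mul_assoc,
      hzz, mul_one]
  have hpow : z * u ^ (i + 1) * z⁻¹ = (u ^ (i + 1))⁻¹ := by rw [← conj_pow, hinv, inv_pow]
  have h1 : u ^ (i + 1) * z * (u ^ (i + 1))⁻¹ = w := by
    calc u ^ (i + 1) * z * (u ^ (i + 1))⁻¹ = u ^ (i + 1) * (z * (u ^ (i + 1))⁻¹ * z⁻¹) * z := by group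
      _ = u ^ (i + 1) * (z * u ^ (i + 1) * z⁻¹)⁻¹ * z := by group
      _ = u ^ (2 * i + 1) * u * z := by
        rw [hpow, inv_inv, ← pow_add, ← pow_succ]; congr 2; omega
      _ = w := by rw [← hi, pow_orderOf_eq_one, one_mul, huw, mul_assoc, hzz, mul_one]
  have hc : (u ^ (i + 1))⁻¹ * g ∈ Subgroup.centralizer ({z} : Set G) := by
    rw [Subgroup.mem_centralizer_singleton_iff]
    calc (u ^ (i + 1))⁻¹ * g * z = (u ^ (i + 1))⁻¹ * (g * z * g⁻¹) * g := by group
      _ = (u ^ (i + 1))⁻¹ * w * g := rfl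
      _ = (u ^ (i + 1))⁻¹ * (u ^ (i + 1) * z * (u ^ (i + 1))⁻¹) * g := by rw [h1]
      _ = z * ((u ^ (i + 1))⁻¹ * g) := by group
  rw [← mul_inv_cancel_left (u ^ (i + 1)) g]
  exact mul_mem (Subgroup.mem_sup_right (pow_mem hu _)) (Subgroup.mem_sup_left hc)

/-- A fused involution gives a surjection from the presented group. -/
theorem exists_surjection (S : Setting G) (hw : IsConj S.t S.w) :
    ∃ ψ : mclSetup.G →* G, Function.Surjective ψ := by
  classical
  obtain ⟨g, hgg, hag, hgt, hrel⟩ := S.exists_gen hw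
  obtain ⟨ψ, hψ⟩ := S.exists_hom g hgg hag hrel
  refine ⟨ψ, MonoidHom.range_eq_top.mp ?_⟩
  rw [hψ]
  set H := Subgroup.closure {S.fG 0, S.fG 1, S.fG 3, g} with hH
  have hCH : S.C ≤ H := by
    intro x hx
    have hle : (⊤ : Subgroup S.C) ≤ H.comap S.C.subtype := by
      rw [← S.hgen, Subgroup.closure_le]
      rintro _ (rfl | rfl | rfl)
      · exact Subgroup.subset_closure (show S.fG 0 ∈ _ by simp)
      · exact Subgroup.subset_closure (show S.fG 1 ∈ _ by simp)
      · exact Subgroup.subset_closure (show S.fG 3 ∈ _ by simp)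
    exact hle (Subgroup.mem_top ⟨x, hx⟩)
  have hgH : g ∈ H := Subgroup.subset_closure (by simp)
  have htH : S.t ∈ H := hCH S.t_mem
  by_contra hne
  -- every involution of the subgroup is conjugate to `t` inside it
  have hconj : ∀ x ∈ H, x * x = 1 → x ≠ 1 → ∃ h ∈ H, h * S.t * h⁻¹ = x := by
    intro x hxH hx hx1
    haveI : Fact (Nat.Prime 2) := ⟨Nat.prime_two⟩
    obtain ⟨P, hP⟩ := S.exists_sylow
    have hpg : IsPGroup 2 (Subgroup.zpowers (⟨x, hxH⟩ : H)) := by
      refine IsPGroup.of_card (n := 1) ?_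
      rw [Nat.card_zpowers, pow_one]
      exact orderOf_eq_prime (by rw [pow_two]; exact Subtype.ext hx) fun h => hx1 (congrArg Subtype.val h)
    obtain ⟨Q, hQ⟩ := hpg.exists_le_sylow
    obtain ⟨k, hk⟩ := MulAction.exists_smul_eq H Q (P.subtype (hP.trans hCH))
    have hmem : (k : G) * x * (k : G)⁻¹ ∈ (P : Subgroup G) := by
      have h2 : k * ⟨x, hxH⟩ * k⁻¹ ∈ ((k • Q : Sylow 2 H) : Subgroup H) :=
        ⟨⟨x, hxH⟩, hQ (Subgroup.mem_zpowers _), rfl⟩
      rw [hk] at h2
      exact h2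
    rcases eq_or_ne ((k : G) * x * (k : G)⁻¹) S.t with h | h
    · exact ⟨(k : G)⁻¹, inv_mem k.2, by rw [← h]; group⟩
    · obtain ⟨c, hc, hce⟩ := S.inv_cases (hP hmem)
        (by rw [show (k : G) * x * (k : G)⁻¹ * ((k : G) * x * (k : G)⁻¹) = (k : G) * (x * x) * (k : G)⁻¹ by group,
          hx]; group)
        (fun h1 => hx1 (by rwa [mul_inv_eq_one, mul_eq_left] at h1)) h
      refine ⟨(k : G)⁻¹ * c * g, mul_mem (mul_mem (inv_mem k.2) (hCH hc)) hgH, ?_⟩
      rw [show (k : G)⁻¹ * c * g * S.t * ((k : G)⁻¹ * c * g)⁻¹ =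
        (k : G)⁻¹ * (c * (g * S.t * g⁻¹) * c⁻¹) * k by group, hgt, hce]
      group
  have hcent : ∀ h ∈ H, ∀ y, y * (h * S.t * h⁻¹) * y⁻¹ = h * S.t * h⁻¹ → y ∈ H := fun h hh y hy => by
    have : h⁻¹ * y * h ∈ S.C := by
      refine Subgroup.mem_centralizer_singleton_iff.mpr (mul_inv_eq_iff_eq_mul.mp ?_)
      calc h⁻¹ * y * h * S.t * (h⁻¹ * y * h)⁻¹ = h⁻¹ * (y * (h * S.t * h⁻¹) * y⁻¹) * h := by group
        _ = h⁻¹ * (h * S.t * h⁻¹) * h := by rw [hy]
        _ = S.t := by group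
    have h2 := mul_mem (mul_mem hh (hCH this)) (inv_mem hh)
    rwa [show h * (h⁻¹ * y * h) * h⁻¹ = y by group] at h2
  have hSE : IsStronglyEmbedded H := by
    refine ⟨hne, ?_, fun y hy => ?_⟩
    · rw [even_iff_two_dvd]
      refine dvd_trans (by rw [S.hcardC]; norm_num) (Subgroup.card_dvd_of_le hCH)
    · by_contra heven
      rw [Nat.not_odd_iff_even, even_iff_two_dvd] at heven
      haveI : Fact (Nat.Prime 2) := ⟨Nat.prime_two⟩
      obtain ⟨⟨i, hiH, z, hz, hzi⟩, hio⟩ := exists_prime_orderOf_dvd_card' 2 heven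
      change y * z * y⁻¹ = i at hzi
      have hii : i * i = 1 ∧ i ≠ 1 := by
        rw [← Subgroup.orderOf_coe] at hio
        change orderOf i = 2 at hio
        exact ⟨by rw [← pow_two, ← hio, pow_orderOf_eq_one],
          fun h => by rw [h, orderOf_one] at hio; exact absurd hio (by decide)⟩
      obtain ⟨h, hh, hhi⟩ := hconj i hiH hii.1 hii.2
      have hz2 : z * z = 1 ∧ z ≠ 1 := by
        have hzi' : z = y⁻¹ * i * y := by rw [← hzi]; group
        refine ⟨?_, fun h1 => hii.2 ?_⟩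
        · rw [hzi', show y⁻¹ * i * y * (y⁻¹ * i * y) = y⁻¹ * (i * i) * y by group, hii.1]; group
        · rw [← hzi, h1]; group
      obtain ⟨h', hh', hhz⟩ := hconj z hz hz2.1 hz2.2
      have hy' : h⁻¹ * y * h' ∈ S.C := by
        refine Subgroup.mem_centralizer_singleton_iff.mpr (mul_inv_eq_iff_eq_mul.mp ?_)
        calc h⁻¹ * y * h' * S.t * (h⁻¹ * y * h')⁻¹ = h⁻¹ * (y * (h' * S.t * h'⁻¹) * y⁻¹) * h := by group
          _ = h⁻¹ * (h * S.t * h⁻¹) * h := by rw [hhz, hzi, hhi]
          _ = S.t := by group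
      have h2 := mul_mem (mul_mem hh (hCH hy')) (inv_mem hh')
      rw [show h * (h⁻¹ * y * h') * h'⁻¹ = y by group] at h2
      exact hy h2
  have htwo : SuzukiRankOne.TwoInvolutions G := by
    have hne' : S.t ≠ S.w := fun h => by
      have := (S.basis checked1).e_inj (u := 1) (v := 2) (by norm_num) (by norm_num)
        ((S.basis_one checked1).trans (h.trans (S.basis_two checked1).symm))
      omega
    refine ⟨S.t, S.w, S.t_ne_one, ?_, hne', S.htt, ?_, ?_⟩
    · rw [← hgt]
      intro h; rw [mul_inv_eq_one, mul_eq_left] at h; exact S.t_ne_one h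
    · rw [← S.basis_two checked1]; exact (S.basis checked1).e_self 2
    · rw [← S.basis_one checked1, ← S.basis_two checked1]; exact ((S.basis checked1).e_comm 1 2).eq
  have hsol : Group.IsSolvable H := Bender.solvable_of_stronglyEmbedded Bender.rankOneHalf hSE htwo
  have hsolC : Group.IsSolvable S.C :=
    Group.isSolvable_of_isSolvable_injective (Subgroup.inclusion_injective hCH)
  have hsolA : Group.IsSolvable (alternatingGroup (Fin 8)) := by
    rw [← S.hrange]
    exact Group.isSolvable_of_surjective S.π.rangeRestrict_surjective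
  haveI : IsSimpleGroup (alternatingGroup (Fin 8)) :=
    alternatingGroup.isSimpleGroup (by rw [Nat.card_eq_fintype_card]; simp)
  have hcomm := IsSimpleGroup.comm_iff_isSolvable.2 hsolA
  have hne2 : ∃ a b : alternatingGroup (Fin 8), a * b ≠ b * a := by
    refine ⟨⟨DoubleCoverAlt.gen 5 0, DoubleCoverAlt.gen_mem (by norm_num)⟩,
      ⟨DoubleCoverAlt.gen 5 1, DoubleCoverAlt.gen_mem (by norm_num)⟩, fun h => ?_⟩
    have : DoubleCoverAlt.gen 5 0 * DoubleCoverAlt.gen 5 1 ≠ DoubleCoverAlt.gen 5 1 * DoubleCoverAlt.gen 5 0 := by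
      decide +kernel
    exact this (congrArg Subtype.val h)
  obtain ⟨a, b, hab⟩ := hne2
  exact hab (hcomm a b)


/-- The presented group is McL. -/
theorem presented_iso : Nonempty (mclSetup.G ≃* Cfsg.Spor.McL) := by
  obtain ⟨e⟩ := Leech.mcl_iso
  haveI : Finite Cfsg.Spor.McL := Nat.finite_of_card_ne_zero (by
    rw [Nat.card_congr e.toEquiv, Leech.natCard_mclGroup]; norm_num)
  haveI : Finite mclSetup.G := Nat.finite_of_card_ne_zero mclt_card_le.2
  obtain ⟨hclass, t, ht, hcov⟩ := S2132.result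
  obtain ⟨S, hSt⟩ := exists_setting t ht hcov
  have hw : IsConj S.t S.w := by
    refine hclass _ _ S.ht (orderOf_eq_prime ?_ ?_)
    · rw [pow_two, ← S.basis_two checked1]; exact (S.basis checked1).e_self 2
    · rw [← S.basis_two checked1]
      exact fun h => absurd (((S.basis checked1).e_eq_one (by norm_num)).mp h) (by norm_num)
  obtain ⟨ψ, hψ⟩ := exists_surjection S hw
  refine ⟨MulEquiv.ofBijective ψ (hψ.bijective_of_nat_card_le ?_)⟩
  rw [Nat.card_congr e.toEquiv, Leech.natCard_mclGroup]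
  exact mclt_card_le.1

/-- The recognition theorem. -/
theorem recognise (t : G) (ht : orderOf t = 2)
    (hcov : Cfsg.IsNonsplitDoubleCover (Subgroup.centralizer ({t} : Set G)) (alternatingGroup (Fin 8))) :
    Subgroup.centralizer ({t} : Set G) ⊔ Cfsg.oddCore G = ⊤ ∨ Nonempty (G ≃* Cfsg.Spor.McL) := by
  obtain ⟨S, rfl⟩ := exists_setting t ht hcov
  by_cases hw : IsConj S.t S.w
  · right
    obtain ⟨ψ, hψ⟩ := exists_surjection S hw
    obtain ⟨e'⟩ := presented_iso
    obtain ⟨e⟩ := Leech.mcl_iso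
    haveI : IsSimpleGroup Leech.mclGroup := Leech.isSimpleGroup_mclGroup
    haveI : Nontrivial mclSetup.G := (e'.trans e).toEquiv.nontrivial
    haveI : IsSimpleGroup mclSetup.G :=
      IsSimpleGroup.isSimpleGroup_of_surjective (e'.trans e).symm.toMonoidHom (e'.trans e).symm.surjective
    have hinj : Function.Injective ψ := by
      rw [← MonoidHom.ker_eq_bot_iff]
      refine ψ.normal_ker.eq_bot_or_eq_top.resolve_right fun htop => S.t_ne_one ?_
      obtain ⟨x, hx⟩ := hψ S.t
      rw [← hx]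
      exact MonoidHom.mem_ker.mp (htop ▸ Subgroup.mem_top x)
    exact ⟨(MulEquiv.ofBijective ψ ⟨hinj, hψ⟩).symm.trans e'⟩
  · left
    refine core_central S.ht ⟨S.ht, fun g hcomm => ?_⟩
    by_contra hne
    have hsq : g * S.t * g⁻¹ * (g * S.t * g⁻¹) = 1 := by
      rw [show g * S.t * g⁻¹ * (g * S.t * g⁻¹) = g * (S.t * S.t) * g⁻¹ by group, S.htt]; group
    obtain ⟨c, -, hc⟩ := S.inv_cases (Subgroup.mem_centralizer_singleton_iff.mpr hcomm.eq.symm) hsq
      (fun h => S.t_ne_one (by rwa [mul_inv_eq_one, mul_eq_left] at h)) hne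
    exact hw ((isConj_iff.mpr ⟨g, rfl⟩).trans (isConj_iff.mpr ⟨c, hc⟩).symm)

end Cfsg.Agent.McLType
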