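import Cfsg.Agent.Lib.McLType.Basis
import Cfsg.Agent.Lib.Solvable.Gaschutz

/-!
# Complements in the normaliser of an elementary abelian group of order 16

* `sel`, `acc`, `complOK`, `cosetOK`, `repsOK`
* `Loc.decomp`, `Loc.exists_code`, `Loc.exists_complement`
-/

set_option autoImplicit false
set_option linter.unusedVariables false
set_option linter.style.haveILetI false

namespace Cfsg.Agent.McLType

/-- Two letters. -/
def sel {α : Type*} (x y : α) (l : ℕ) : α := bif Nat.beq l 0 then x else y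

/-- Three letters. -/
def sel3 {α : Type*} (x y z : α) (l : ℕ) : α := bif Nat.beq l 0 then x else bif Nat.beq l 1 then y else z

/-- The translation part of a word in two twisted letters. -/
def acc (ca cb v1 v2 : ℕ) (u : List ℕ) : ℕ :=
  u.foldr (fun l x => sel v1 v2 l ^^^ app (sel ca cb l) x) 0

/-- Relations of the complement. -/
def lRels : List (List ℕ) :=
  [[0, 0], [1, 1, 1], [0, 1, 0, 1, 0, 1, 0, 1, 0, 1, 0, 1, 0, 1],
    [0, 1, 0, 1, 1, 0, 1, 0, 1, 1, 0, 1, 0, 1, 1, 0, 1, 0, 1, 1]]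

/-- Twisted pairs satisfying the relations are conjugate to the pair. -/
def complOK (ca cb : ℕ) : Bool :=
  (List.range 16).all fun v1 => (List.range 16).all fun v2 =>
    !(lRels.all fun u => Nat.beq (acc ca cb v1 v2 u) 0) ||
      (List.range 16).any fun x => Nat.beq (x ^^^ app ca x) v1 && Nat.beq (x ^^^ app cb x) v2

/-- Injectivity of a code. -/
def injOK (c : ℕ) : Bool := (List.range 15).all fun v => !Nat.beq (app c (v + 1)) 0

/-- Every code sending `1` to `2` reaches a representative. -/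
def repsOK (tbl : List (ℕ × List ℕ)) (reps : List (ℕ × List ℕ)) (look : ℕ) : Bool :=
  (List.range 16).all fun x => (List.range 16).all fun y => (List.range 16).all fun z =>
    !injOK (mkCode 2 x y z) ||
      (match tbl[(look >>> (8 * (x + 16 * y + 256 * z))) &&& 255]? with
        | some p => reps.any fun r => Nat.beq (comp (mkCode 2 x y z) p.1) r.1
        | none => false)

/-- Every representative other than the chosen one generates an element fixing `1` outside the table. -/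
def badOK (ca cb : ℕ) (tbl : List (ℕ × List ℕ)) (reps : List (ℕ × List ℕ)) (k : ℕ) : Bool :=
  reps.all fun r => Nat.beq r.1 k ||
    (Nat.beq (app (cev (sel3 ca cb r.1) r.2) 1) 1 && !(tbl.any fun p => Nat.beq p.1 (cev (sel3 ca cb r.1) r.2)))

variable {G : Type*} [Group G]

/-- A basis subgroup with a complement in the centraliser of its first vector. -/
structure Loc (G : Type*) [Group G] where
  F : Basis G
  a : G
  b : G
  ca : ℕ
  cb : ℕ
  tbl : List (ℕ × List ℕ)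
  haN : a ∈ Subgroup.normalizer (F.U : Set G)
  hbN : b ∈ Subgroup.normalizer (F.U : Set G)
  hca : F.cd a = ca
  hcb : F.cd b = cb
  hat : a * F.e 1 * a⁻¹ = F.e 1
  hbt : b * F.e 1 * b⁻¹ = F.e 1
  hCU : Subgroup.centralizer (F.U : Set G) = F.U
  hword : ∀ p ∈ tbl, cev (sel ca cb) p.2 = p.1
  hclosed : ∀ p ∈ tbl, ∀ l ∈ [0, 1], ∃ q ∈ tbl, ev (sel a b) (l :: p.2) = ev (sel a b) q.2
  hnodup : (tbl.map Prod.fst).Nodup
  hlen : tbl.length = 168
  hid : ∀ p ∈ tbl, p.1 = cid → p.2 = []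
  hnil : (cid, ([] : List ℕ)) ∈ tbl
  hrels : ∀ u ∈ lRels, ev (sel a b) u = 1
  hS : Nat.card ↥(Subgroup.normalizer (F.U : Set G) ⊓ Subgroup.centralizer {F.e 1}) ≤ 2688

namespace Loc

variable (D : Loc G)

theorem sel_mem (l : ℕ) : sel D.a D.b l ∈ Subgroup.normalizer (D.F.U : Set G) := by
  unfold sel; cases Nat.beq l 0
  · exact D.hbN
  · exact D.haN

theorem cd_sel (l : ℕ) : D.F.cd (sel D.a D.b l) = sel D.ca D.cb l := by
  unfold sel; cases Nat.beq l 0
  · exact D.hcb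
  · exact D.hca

theorem sel_fix (l : ℕ) : sel D.a D.b l ∈ Subgroup.centralizer ({D.F.e 1} : Set G) := by
  rw [Subgroup.mem_centralizer_singleton_iff]
  unfold sel; cases Nat.beq l 0
  · exact mul_inv_eq_iff_eq_mul.mp D.hbt
  · exact mul_inv_eq_iff_eq_mul.mp D.hat

theorem cd_word {p : ℕ × List ℕ} (hp : p ∈ D.tbl) :
    ev (sel D.a D.b) p.2 ∈ Subgroup.normalizer (D.F.U : Set G) ∧
      D.F.cd (ev (sel D.a D.b) p.2) = p.1 := by
  refine ⟨ev_mem _ _ _ fun l _ => D.sel_mem l, ?_⟩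
  rw [cd_ev D.F _ (sel D.ca D.cb) _ (fun l _ => D.sel_mem l) (fun l _ => D.cd_sel l), D.hword p hp]

theorem e_norm {v : ℕ} (hv : v < 16) : D.F.e v ∈ Subgroup.normalizer (D.F.U : Set G) :=
  Subgroup.le_normalizer (D.F.e_mem hv)

theorem cd_e {v : ℕ} (hv : v < 16) : D.F.cd (D.F.e v) = cid := by
  obtain ⟨e0, e1, e2, e3⟩ := D.F.e_basis
  have h : ∀ u, D.F.e v * D.F.e u * (D.F.e v)⁻¹ = D.F.e u := fun u => by
    rw [(D.F.e_comm v u).eq, mul_inv_cancel_right]
  unfold Basis.cd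
  rw [← e0, ← e1, ← e2, ← e3, h, h, h, h, D.F.idx_e (by norm_num), D.F.idx_e (by norm_num),
    D.F.idx_e (by norm_num), D.F.idx_e (by norm_num)]
  rfl

theorem cd_e_mul {v : ℕ} (hv : v < 16) {h : G} (hh : h ∈ Subgroup.normalizer (D.F.U : Set G)) :
    D.F.cd (D.F.e v * h) = D.F.cd h := by
  have hc : ∀ b : G, (∃ u, u < 16 ∧ D.F.e u = b) →
      D.F.e v * h * b * (D.F.e v * h)⁻¹ = h * b * h⁻¹ := by
    rintro b ⟨u, hu, rfl⟩
    rw [show D.F.e v * h * D.F.e u * (D.F.e v * h)⁻¹ = D.F.e v * (h * D.F.e u * h⁻¹) * (D.F.e v)⁻¹ by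
      group, D.F.conj_eq hh, (D.F.e_comm v _).eq, mul_inv_cancel_right]
  obtain ⟨e0, e1, e2, e3⟩ := D.F.e_basis
  unfold Basis.cd
  rw [hc _ ⟨1, by norm_num, e0⟩, hc _ ⟨2, by norm_num, e1⟩, hc _ ⟨4, by norm_num, e2⟩,
    hc _ ⟨8, by norm_num, e3⟩]

/-- The complement in the centraliser of the first vector. -/
def L0 : Subgroup G := Subgroup.closure {D.a, D.b}

theorem mem_L0 [Finite G] {x : G} (hx : x ∈ D.L0) : ∃ p ∈ D.tbl, ev (sel D.a D.b) p.2 = x := by
  let T : Set G := {x | ∃ p ∈ D.tbl, ev (sel D.a D.b) p.2 = x}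
  let M : Submonoid G :=
    { carrier := {x | ∀ y ∈ T, x * y ∈ T}
      mul_mem' := fun {x y} hx hy z hz => by rw [mul_assoc]; exact hx _ (hy z hz)
      one_mem' := fun z hz => by rwa [one_mul] }
  have hinv : ∀ x ∈ M, x⁻¹ ∈ M := fun x hx => by
    have : x⁻¹ ∈ Submonoid.powers x :=
      (mem_powers_iff_mem_zpowers).mpr (Subgroup.inv_mem _ (Subgroup.mem_zpowers x))
    exact Submonoid.powers_le.mpr hx this
  let K : Subgroup G := { M with inv_mem' := fun {x} hx => hinv x hx }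
  have hK : D.L0 ≤ K := by
    refine (Subgroup.closure_le _).mpr ?_
    rintro _ (rfl | rfl) <;> rintro y ⟨p, hp, rfl⟩
    · obtain ⟨q, hq, he⟩ := D.hclosed p hp 0 (by simp)
      exact ⟨q, hq, by rw [← he, ev_cons]; rfl⟩
    · obtain ⟨q, hq, he⟩ := D.hclosed p hp 1 (by simp)
      exact ⟨q, hq, by rw [← he, ev_cons]; rfl⟩
  have h1 : (1 : G) ∈ T := ⟨_, D.hnil, rfl⟩
  simpa [T] using hK hx 1 h1

theorem word_mem_L0 (u : List ℕ) : ev (sel D.a D.b) u ∈ D.L0 := by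
  refine ev_mem _ _ _ fun l _ => ?_
  unfold sel; cases Nat.beq l 0 <;> exact Subgroup.subset_closure (by simp)

theorem L0_le : D.L0 ≤ Subgroup.normalizer (D.F.U : Set G) ⊓ Subgroup.centralizer {D.F.e 1} := by
  refine (Subgroup.closure_le _).mpr ?_
  rintro _ (rfl | rfl)
  · exact ⟨D.sel_mem 0, D.sel_fix 0⟩
  · exact ⟨D.sel_mem 1, D.sel_fix 1⟩

theorem L0_inf [Finite G] : D.L0 ⊓ D.F.U = ⊥ := by
  rw [eq_bot_iff]
  rintro x ⟨hx, v, hv, hxv⟩
  obtain ⟨p, hp, hpx⟩ := D.mem_L0 hx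
  have h1 := (D.cd_word hp).2
  rw [hpx, ← hxv, D.cd_e hv] at h1
  rw [Subgroup.mem_bot, ← hpx, D.hid p hp h1.symm, ev_nil]

theorem e_mem_S {v : ℕ} (hv : v < 16) :
    D.F.e v ∈ Subgroup.normalizer (D.F.U : Set G) ⊓ Subgroup.centralizer {D.F.e 1} :=
  ⟨D.e_norm hv, Subgroup.mem_centralizer_singleton_iff.mpr (D.F.e_comm v 1).eq⟩

/-- The centraliser of the first vector in the normaliser. -/
theorem decomp [Finite G] {x : G} (hx : x ∈ Subgroup.normalizer (D.F.U : Set G))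
    (hxt : x * D.F.e 1 * x⁻¹ = D.F.e 1) :
    ∃ v, v < 16 ∧ ∃ p ∈ D.tbl, x = D.F.e v * ev (sel D.a D.b) p.2 := by
  set S := Subgroup.normalizer (D.F.U : Set G) ⊓ Subgroup.centralizer {D.F.e 1}
  let f : Fin 16 × Fin D.tbl.length → S := fun q => ⟨D.F.e q.1 * ev (sel D.a D.b) (D.tbl[q.2]).2,
    mul_mem (D.e_mem_S q.1.2) (D.L0_le (D.word_mem_L0 _))⟩
  have hf : Function.Injective f := by
    rintro ⟨u, i⟩ ⟨v, j⟩ h
    have h' : D.F.e u * ev (sel D.a D.b) (D.tbl[i]).2 = D.F.e v * ev (sel D.a D.b) (D.tbl[j]).2 :=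
      congrArg Subtype.val h
    have hi := D.cd_word (List.getElem_mem (l := D.tbl) i.2)
    have hj := D.cd_word (List.getElem_mem (l := D.tbl) j.2)
    have hc := congrArg D.F.cd h'
    erw [D.cd_e_mul u.2 hi.1, D.cd_e_mul v.2 hj.1, hi.2, hj.2] at hc
    have hij : i = j := by
      have := (List.nodup_iff_injective_get.mp D.hnodup)
        (a₁ := ⟨i.1, by simp⟩) (a₂ := ⟨j.1, by simp⟩) (by simpa using hc)
      exact Fin.ext (by simpa using congrArg Fin.val this)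
    subst hij
    exact Prod.ext (Fin.ext (D.F.e_inj u.2 v.2 (mul_right_cancel h'))) rfl
  have hb : Function.Bijective f := by
    refine hf.bijective_of_nat_card_le ?_
    rw [Nat.card_prod, Nat.card_fin, Nat.card_fin, D.hlen]
    exact D.hS
  obtain ⟨⟨v, i⟩, hvi⟩ := hb.2 ⟨x, hx, Subgroup.mem_centralizer_singleton_iff.mpr
    (mul_inv_eq_iff_eq_mul.mp hxt)⟩
  exact ⟨v, v.2, _, List.getElem_mem i.2, (congrArg Subtype.val hvi).symm⟩

/-- Identification of the image: it contains `k`. -/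
theorem exists_code [Finite G] {reps : List (ℕ × List ℕ)} {look k : ℕ}
    (hreps : repsOK D.tbl reps look = true) (hbad : badOK D.ca D.cb D.tbl reps k = true)
    (htr : ∃ h ∈ Subgroup.normalizer (D.F.U : Set G), h * D.F.e 1 * h⁻¹ = D.F.e 2) :
    ∃ h ∈ Subgroup.normalizer (D.F.U : Set G), D.F.cd h = k := by
  obtain ⟨h, hh, hh1⟩ := htr
  obtain ⟨e0, e1, e2, e3⟩ := D.F.e_basis
  have hc : D.F.cd h = mkCode 2 (D.F.idx (h * D.F.b1 * h⁻¹)) (D.F.idx (h * D.F.b2 * h⁻¹))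
      (D.F.idx (h * D.F.b3 * h⁻¹)) := by
    unfold Basis.cd
    rw [← e0, hh1, D.F.idx_e (by norm_num)]
  have hinj : injOK (D.F.cd h) = true := by
    simp only [injOK, List.all_eq_true, List.mem_range, Bool.not_eq_true']
    intro v hv
    refine Bool.eq_false_iff.mpr fun h0 => ?_
    have h1 := D.F.conj_eq hh (v + 1)
    rw [Nat.eq_of_beq_eq_true h0, D.F.e_zero, mul_inv_eq_one, mul_eq_left] at h1
    exact absurd ((D.F.e_eq_one (by omega)).mp h1) (by omega)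
  simp only [repsOK, List.all_eq_true, List.mem_range, Bool.or_eq_true, Bool.not_eq_true'] at hreps
  rcases hreps _ (D.F.idx_lt (h * D.F.b1 * h⁻¹)) _ (D.F.idx_lt (h * D.F.b2 * h⁻¹)) _
    (D.F.idx_lt (h * D.F.b3 * h⁻¹)) with hi | hi
  · rw [← hc, hinj] at hi; exact absurd hi (by decide)
  rw [← hc] at hi
  split at hi
  case h_2 => exact absurd hi (by decide)
  case h_1 p hp =>
  have hp' : p ∈ D.tbl := List.mem_of_getElem? hp
  obtain ⟨r, hr, hrc⟩ := List.any_eq_true.mp hi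
  have hm := mul_mem hh (D.cd_word hp').1
  have hcode : D.F.cd (h * ev (sel D.a D.b) p.2) = r.1 := by
    rw [D.F.cd_mul hh (D.cd_word hp').1, (D.cd_word hp').2]
    exact Nat.eq_of_beq_eq_true hrc
  have hbr := List.all_eq_true.mp hbad r hr
  rw [Bool.or_eq_true] at hbr
  rcases hbr with hk | hk
  · exact ⟨_, hm, hcode.trans (Nat.eq_of_beq_eq_true hk)⟩
  exfalso
  rw [Bool.and_eq_true, Bool.not_eq_true'] at hk
  set f := sel3 D.a D.b (h * ev (sel D.a D.b) p.2) with hf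
  have hfN : ∀ l, f l ∈ Subgroup.normalizer (D.F.U : Set G) := fun l => by
    rw [hf]; unfold sel3; cases Nat.beq l 0 <;> cases Nat.beq l 1 <;>
      first | exact D.haN | exact D.hbN | exact hm
  have hfc : ∀ l, D.F.cd (f l) = sel3 D.ca D.cb r.1 l := fun l => by
    rw [hf]; unfold sel3; cases Nat.beq l 0 <;> cases Nat.beq l 1 <;>
      first | exact D.hca | exact D.hcb | exact hcode
  set x := ev f r.2
  have hxc : D.F.cd x = cev (sel3 D.ca D.cb r.1) r.2 :=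
    cd_ev D.F f _ _ (fun l _ => hfN l) (fun l _ => hfc l)
  have hxN : x ∈ Subgroup.normalizer (D.F.U : Set G) := ev_mem _ _ _ fun l _ => hfN l
  have hxt : x * D.F.e 1 * x⁻¹ = D.F.e 1 := by
    rw [D.F.conj_eq hxN, hxc, Nat.eq_of_beq_eq_true hk.1]
  obtain ⟨v, hv, q, hq, hxq⟩ := D.decomp hxN hxt
  have : q.1 = cev (sel3 D.ca D.cb r.1) r.2 := by
    rw [← hxc, hxq, D.cd_e_mul hv (D.cd_word hq).1, (D.cd_word hq).2]
  refine Bool.false_ne_true (hk.2.symm.trans (List.any_eq_true.mpr ⟨q, hq, ?_⟩))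
  rw [this]
  exact Nat.beq_refl _

theorem acc_lt {v1 v2 : ℕ} (h1 : v1 < 16) (h2 : v2 < 16) (u : List ℕ) :
    acc D.ca D.cb v1 v2 u < 16 := by
  cases u with
  | nil => exact Nat.zero_lt_succ _
  | cons l u =>
    refine Nat.xor_lt_two_pow (n := 4) ?_ (app_lt _ _)
    unfold sel; cases Nat.beq l 0 <;> assumption

theorem ev_twist {v1 v2 : ℕ} (h1 : v1 < 16) (h2 : v2 < 16) (u : List ℕ) :
    ev (sel (D.F.e v1 * D.a) (D.F.e v2 * D.b)) u =
      D.F.e (acc D.ca D.cb v1 v2 u) * ev (sel D.a D.b) u := by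
  induction u with
  | nil => simp [acc, ev_nil, D.F.e_zero]
  | cons l u ih =>
    have key : ∀ (x : G) (c v : ℕ), x ∈ Subgroup.normalizer (D.F.U : Set G) → D.F.cd x = c →
        ∀ w r, D.F.e v * x * (D.F.e w * r) = D.F.e (v ^^^ app c w) * (x * r) := by
      intro x c v hx hc w r
      rw [D.F.e_xor, ← hc, ← D.F.conj_eq hx]
      group
    rw [ev_cons, ev_cons, ih]
    show _ = D.F.e (sel v1 v2 l ^^^ app (sel D.ca D.cb l) (acc D.ca D.cb v1 v2 u)) * _
    unfold sel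
    cases Nat.beq l 0
    · exact key _ _ _ D.hbN D.hcb _ _
    · exact key _ _ _ D.haN D.hca _ _

/-- A complement in the normaliser containing the two given elements. -/
theorem exists_complement [Finite G]
    (htr : ∀ y, y < 16 → y ≠ 0 → ∃ h ∈ Subgroup.normalizer (D.F.U : Set G), h * D.F.e 1 * h⁻¹ = D.F.e y)
    (hcomp : complOK D.ca D.cb = true) :
    ∃ K : Subgroup G, K ≤ Subgroup.normalizer (D.F.U : Set G) ∧ K ⊓ D.F.U = ⊥ ∧
      (∀ h ∈ Subgroup.normalizer (D.F.U : Set G), ∃ v, v < 16 ∧ D.F.e v * h ∈ K) ∧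
      D.a ∈ K ∧ D.b ∈ K := by
  classical
  set N := Subgroup.normalizer (D.F.U : Set G) with hN
  set S := N ⊓ Subgroup.centralizer {D.F.e 1} with hS
  haveI : (D.F.U.subgroupOf N).Normal := Subgroup.normal_in_normalizer
  haveI : IsMulCommutative (D.F.U.subgroupOf N) :=
    ⟨⟨fun ⟨x, hx⟩ ⟨y, hy⟩ => Subtype.ext (Subtype.ext (by
      obtain ⟨u, _, hu⟩ := hx
      obtain ⟨v, _, hv⟩ := hy
      show (x : G) * y = y * x
      rw [show (x : G) = D.F.e u from hu.symm, show (y : G) = D.F.e v from hv.symm]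
      exact (D.F.e_comm u v).eq))⟩⟩
  have hidx : (S.subgroupOf N).index = 15 := by
    let f : N ⧸ S.subgroupOf N → {y : Fin 16 // y ≠ 0} := fun q => Quotient.liftOn' q
      (fun n => ⟨⟨D.F.idx (n.1 * D.F.e 1 * n.1⁻¹), D.F.idx_lt _⟩, fun h0 => by
        have hm := D.F.e_idx (show n.1 * D.F.e 1 * n.1⁻¹ ∈ D.F.U from
          (Subgroup.mem_normalizer_iff.mp n.2 _).mp (D.F.e_mem (by norm_num)))
        rw [show D.F.idx (n.1 * D.F.e 1 * n.1⁻¹) = 0 from congrArg Fin.val h0, D.F.e_zero,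
          eq_comm, mul_inv_eq_one, mul_eq_left] at hm
        exact absurd ((D.F.e_eq_one (by norm_num)).mp hm) (by norm_num)⟩)
      (fun m n hmn => by
        have hmn' := Subgroup.mem_centralizer_singleton_iff.mp (QuotientGroup.leftRel_apply.mp hmn).2
        refine Subtype.ext (Fin.ext (congrArg D.F.idx ?_))
        show (m : G) * D.F.e 1 * (m : G)⁻¹ = (n : G) * D.F.e 1 * (n : G)⁻¹
        have : (n : G) = m * ((m : G)⁻¹ * n) := by group
        rw [this, show (m : G) * ((m : G)⁻¹ * n) * D.F.e 1 * ((m : G) * ((m : G)⁻¹ * n))⁻¹ =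
          m * ((((m : G)⁻¹ * n) * D.F.e 1) * ((m : G)⁻¹ * n)⁻¹) * (m : G)⁻¹ by group,
          show (m : G)⁻¹ * n * D.F.e 1 * ((m : G)⁻¹ * n)⁻¹ = D.F.e 1 from mul_inv_eq_iff_eq_mul.mpr hmn'])
    have hb : Function.Bijective f := by
      constructor
      · intro p q
        induction p using Quotient.inductionOn' with
        | _ m =>
          induction q using Quotient.inductionOn' with
          | _ n =>
            intro h
            have h' : D.F.idx (m.1 * D.F.e 1 * m.1⁻¹) = D.F.idx (n.1 * D.F.e 1 * n.1⁻¹) :=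
              congrArg (fun z : {y : Fin 16 // y ≠ 0} => z.1.1) h
            have hm' := D.F.e_idx ((Subgroup.mem_normalizer_iff.mp m.2 _).mp (D.F.e_mem (show 1 < 16 by norm_num)))
            have hn' := D.F.e_idx ((Subgroup.mem_normalizer_iff.mp n.2 _).mp (D.F.e_mem (show 1 < 16 by norm_num)))
            have heq : m.1 * D.F.e 1 * m.1⁻¹ = n.1 * D.F.e 1 * n.1⁻¹ := by rw [← hm', h', hn']
            refine Quotient.sound' (QuotientGroup.leftRel_apply.mpr ⟨(m⁻¹ * n).2, ?_⟩)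
            refine Subgroup.mem_centralizer_singleton_iff.mpr ?_
            show (m : G)⁻¹ * n * D.F.e 1 = D.F.e 1 * ((m : G)⁻¹ * n)
            calc (m : G)⁻¹ * n * D.F.e 1 = (m : G)⁻¹ * (n.1 * D.F.e 1 * n.1⁻¹) * n := by group
              _ = (m : G)⁻¹ * (m.1 * D.F.e 1 * m.1⁻¹) * n := by rw [heq]
              _ = _ := by group
      · rintro ⟨⟨y, hy⟩, hy0⟩
        obtain ⟨h, hh, hh1⟩ := htr y hy (fun h0 => hy0 (Fin.ext h0))
        refine ⟨QuotientGroup.mk (⟨h, hh⟩ : N), Subtype.ext (Fin.ext ?_)⟩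
        show D.F.idx (h * D.F.e 1 * h⁻¹) = y
        rw [hh1, D.F.idx_e hy]
    have := Nat.card_eq_of_bijective f hb
    rw [Subgroup.index, this, Nat.card_eq_fintype_card]
    rfl
  have hUS : D.F.U ≤ S := fun x ⟨v, hv, hx⟩ => hx ▸ D.e_mem_S hv
  have hsup : D.F.U.subgroupOf N ⊔ D.L0.subgroupOf N = S.subgroupOf N := by
    apply le_antisymm
    · exact sup_le (fun x hx => hUS hx) (fun x hx => D.L0_le hx)
    · rintro ⟨x, hxN⟩ hx
      obtain ⟨v, hv, p, hp, hxp⟩ := D.decomp hxN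
        (mul_inv_eq_iff_eq_mul.mpr (Subgroup.mem_centralizer_singleton_iff.mp hx.2))
      have : (⟨x, hxN⟩ : N) = ⟨D.F.e v, D.e_norm hv⟩ * ⟨ev (sel D.a D.b) p.2, (D.cd_word hp).1⟩ :=
        Subtype.ext hxp
      rw [this]
      exact mul_mem (Subgroup.mem_sup_left (D.F.e_mem hv)) (Subgroup.mem_sup_right (D.word_mem_L0 _))
  obtain ⟨H, hH⟩ := Solvable.gaschutz_exists (K := D.F.U.subgroupOf N) (U := S.subgroupOf N)
    (fun x hx => hUS hx) (by
      rw [hidx, Nat.card_congr (Subgroup.subgroupOfEquivOfLe (Subgroup.le_normalizer)).toEquiv,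
        D.F.card_U]
      decide)
    (A := D.L0.subgroupOf N) (by
      rw [eq_bot_iff]
      rintro x ⟨h1, h2⟩
      exact Subgroup.mem_bot.mpr (Subtype.ext ((Subgroup.mem_bot).mp (D.L0_inf ▸ (⟨h1, h2⟩ : x.1 ∈ D.L0 ⊓ D.F.U)))))
    hsup
  set K0 := H.map N.subtype with hK0
  have h0N : K0 ≤ N := Subgroup.map_subtype_le H
  have h0U : K0 ⊓ D.F.U = ⊥ := by
    rw [eq_bot_iff]
    rintro _ ⟨⟨x, hx, rfl⟩, hxU⟩
    have hx' : x ∈ D.F.U.subgroupOf N ⊓ H := ⟨hxU, hx⟩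
    rw [disjoint_iff.1 hH.disjoint, Subgroup.mem_bot] at hx'
    subst hx'
    rfl
  have h0cov : ∀ h ∈ N, ∃ v, v < 16 ∧ D.F.e v * h ∈ K0 := fun h hh => by
    obtain ⟨⟨⟨u, hu⟩, k⟩, huk⟩ := hH.2 ⟨h, hh⟩
    obtain ⟨v, hv, hue⟩ := hu
    refine ⟨v, hv, k.1, k.2, ?_⟩
    have h' : (u : G) * (k.1 : G) = h := congrArg Subtype.val huk
    show (k.1 : G) = D.F.e v * h
    rw [← h', show (u : G) = D.F.e v from hue.symm, ← mul_assoc, D.F.e_self, one_mul]
  obtain ⟨v1, hv1, hk1⟩ := h0cov D.a D.haN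
  obtain ⟨v2, hv2, hk2⟩ := h0cov D.b D.hbN
  have hall : ∀ u ∈ lRels, Nat.beq (acc D.ca D.cb v1 v2 u) 0 = true := by
    intro u hu
    have hmem : ev (sel (D.F.e v1 * D.a) (D.F.e v2 * D.b)) u ∈ K0 ⊓ D.F.U := by
      refine ⟨ev_mem _ _ _ fun l _ => ?_, ?_⟩
      · unfold sel; cases Nat.beq l 0 <;> assumption
      · rw [D.ev_twist hv1 hv2, D.hrels u hu, mul_one]
        exact D.F.e_mem (D.acc_lt hv1 hv2 u)
    rw [h0U, Subgroup.mem_bot, D.ev_twist hv1 hv2, D.hrels u hu, mul_one,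
      D.F.e_eq_one (D.acc_lt hv1 hv2 u)] at hmem
    rw [hmem]; rfl
  have hc := hcomp
  simp only [complOK, List.all_eq_true, List.mem_range] at hc
  have hc' := hc v1 hv1 v2 hv2
  rw [List.all_eq_true.mpr hall] at hc'
  obtain ⟨x, hx, hx12⟩ := List.any_eq_true.mp (by simpa using hc' : (List.range 16).any (fun x =>
    Nat.beq (x ^^^ app D.ca x) v1 && Nat.beq (x ^^^ app D.cb x) v2) = true)
  rw [List.mem_range] at hx
  rw [Bool.and_eq_true] at hx12
  refine ⟨K0.map (MulAut.conj (D.F.e x)).toMonoidHom, ?_, ?_, ?_, ?_⟩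
  · rintro _ ⟨k, hk, rfl⟩
    exact mul_mem (mul_mem (D.e_norm hx) (h0N hk)) (inv_mem (D.e_norm hx))
  · rw [eq_bot_iff]
    rintro _ ⟨⟨k, hk, rfl⟩, hkU⟩
    have hkU' : k ∈ D.F.U := by
      have := mul_mem (mul_mem (inv_mem (D.F.e_mem hx)) hkU) (D.F.e_mem hx)
      simpa [mul_assoc] using this
    have : k = 1 := Subgroup.mem_bot.mp (h0U ▸ (⟨hk, hkU'⟩ : k ∈ K0 ⊓ D.F.U))
    simp [this]
  · intro h hh
    obtain ⟨v, hv, hk⟩ := h0cov _ (mul_mem (mul_mem (D.e_norm hx) hh) (D.e_norm hx))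
    refine ⟨v, hv, _, hk, ?_⟩
    show D.F.e x * (D.F.e v * (D.F.e x * h * D.F.e x)) * (D.F.e x)⁻¹ = D.F.e v * h
    rw [D.F.e_inv, show D.F.e x * (D.F.e v * (D.F.e x * h * D.F.e x)) * D.F.e x =
      D.F.e x * D.F.e v * D.F.e x * h * (D.F.e x * D.F.e x) by group, D.F.e_self, mul_one,
      (D.F.e_comm x v).eq, mul_assoc (D.F.e v), D.F.e_self, mul_one]
  · have key : ∀ (y : G) (c v : ℕ), y ∈ N → D.F.cd y = c → x ^^^ app c x = v →
        D.F.e x * (D.F.e v * y) * (D.F.e x)⁻¹ = y := by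
      intro y c v hy hc hv
      rw [← hv, D.F.e_xor, ← hc, ← D.F.conj_eq hy, D.F.e_inv]
      rw [show D.F.e x * (D.F.e x * (y * D.F.e x * y⁻¹) * y) * D.F.e x =
        D.F.e x * D.F.e x * y * (D.F.e x * D.F.e x) by group, D.F.e_self, one_mul, mul_one]
    exact ⟨⟨_, hk1, key _ _ _ D.haN D.hca (Nat.eq_of_beq_eq_true hx12.1)⟩,
      ⟨_, hk2, key _ _ _ D.hbN D.hcb (Nat.eq_of_beq_eq_true hx12.2)⟩⟩

end Loc

end Cfsg.Agent.McLType
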