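import Cfsg.Agent.Lib.McLType.Locs
import Mathlib.GroupTheory.Nilpotent
import Mathlib.GroupTheory.GroupAction.Quotient

/-!
# One class of involutions, and transitivity of the normalisers of the frames

* `Setting.all_conj`, `Setting.transitive`
-/

set_option autoImplicit false
set_option linter.style.haveILetI false

namespace Cfsg.Agent.McLType

open Equiv

/-- The codes of a Sylow subgroup of the complement. -/
def sylCodes : List ℕ := sylTab.map fun i => (table1.getD i (0, [])).1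

/-- The conditions on the Sylow subgroup. -/
def sylOK : Bool :=
  (sylCodes.all fun a => sylCodes.all fun b => sylCodes.any fun c => Nat.beq (comp a b) c) &&
  (sylGens.all fun u => sylCodes.any fun c => Nat.beq (cev (sel codeA1 codeB1) u) c) &&
  (sylCodes.any fun c => Nat.beq c cid) &&
  (sylCodes.all fun c => table1.any fun p => Nat.beq p.1 c) &&
  ((List.range 16).all fun v => Nat.blt v 2 ||
    !(sylGens.all fun u => Nat.beq (app (cev (sel codeA1 codeB1) u) v) v))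

theorem sylOK_eq : sylOK = true := by decide +kernel

theorem sylCodes_length : sylCodes.length = 8 ∧ sylCodes.Nodup := by decide +kernel

namespace Setting

variable {G : Type*} [Group G] (S : Setting G)

theorem t_ne_one : S.t ≠ 1 := fun h => by
  have := S.ht; rw [h, orderOf_one] at this; exact absurd this (by decide)

theorem not_256_dvd : ¬ 2 ^ 8 ∣ 40320 := by decide

/-- A Sylow subgroup of the centraliser is one of the group, and its centre contains one involution. -/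
theorem exists_sylow [Finite G] : ∃ P : Sylow 2 G, (P : Subgroup G) ≤ S.C := by
  classical
  haveI : Fact (Nat.Prime 2) := ⟨Nat.prime_two⟩
  set D := S.loc checked1 with hD
  have ht := sylOK_eq
  simp only [sylOK, Bool.and_eq_true, List.all_eq_true, List.mem_range, List.any_eq_true] at ht
  obtain ⟨⟨⟨⟨hmul, hgens⟩, hone⟩, htbl⟩, hfix⟩ := ht
  have he1 : D.F.e 1 = S.t := S.basis_one checked1
  set N := Subgroup.normalizer (D.F.U : Set G) ⊓ S.C with hN
  have hNC : ∀ x, x ∈ N → x * D.F.e 1 * x⁻¹ = D.F.e 1 := fun x hx => by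
    rw [he1, mul_inv_eq_iff_eq_mul]; exact S.t_comm hx.2
  let M : Submonoid G :=
    { carrier := {x | x ∈ N ∧ D.F.cd x ∈ sylCodes}
      mul_mem' := fun {x y} hx hy => ⟨mul_mem hx.1 hy.1, by
        obtain ⟨c, hc, hc'⟩ := hmul _ hx.2 _ hy.2
        rw [D.F.cd_mul hx.1.1 hy.1.1, Nat.eq_of_beq_eq_true hc']; exact hc⟩
      one_mem' := ⟨one_mem _, by
        obtain ⟨c, hc, hc'⟩ := hone
        rw [D.F.cd_one, ← Nat.eq_of_beq_eq_true hc']; exact hc⟩ }
  have hinv : ∀ x ∈ M, x⁻¹ ∈ M := fun x hx => by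
    have : x⁻¹ ∈ Submonoid.powers x :=
      (mem_powers_iff_mem_zpowers).mpr (Subgroup.inv_mem _ (Subgroup.mem_zpowers x))
    exact Submonoid.powers_le.mpr hx this
  let P0 : Subgroup G := { M with inv_mem' := fun {x} hx => hinv x hx }
  have hUP : ∀ v, v < 16 → D.F.e v ∈ P0 := fun v hv => by
    refine ⟨⟨D.e_norm hv, S.U_le checked1 ((S.basis checked1).e_mem hv)⟩, ?_⟩
    obtain ⟨c, hc, hc'⟩ := hone
    rw [D.cd_e hv, ← Nat.eq_of_beq_eq_true hc']; exact hc
  have hwC : ∀ u : List ℕ, ev (sel D.a D.b) u ∈ N := fun u =>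
    ⟨ev_mem _ _ _ fun l _ => D.sel_mem l, by
      have := (D.L0_le (D.word_mem_L0 u)).2
      rwa [he1] at this⟩
  have hpick : ∀ i : Fin 8, ∃ p ∈ D.tbl, p.1 = sylCodes[i.1]'(by rw [sylCodes_length.1]; exact i.2) := fun i => by
    obtain ⟨p, hp, hp'⟩ := htbl _ (List.getElem_mem (l := sylCodes) (n := i.1) (by rw [sylCodes_length.1]; exact i.2))
    exact ⟨p, hp, Nat.eq_of_beq_eq_true hp'⟩
  choose pk hpk hpc using hpick
  let F : Fin 16 × Fin 8 → P0 := fun q => ⟨D.F.e q.1 * ev (sel D.a D.b) (pk q.2).2, mul_mem (hUP _ q.1.2)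
    ⟨hwC _, by rw [(D.cd_word (hpk q.2)).2, hpc]; exact List.getElem_mem _⟩⟩
  have hF : Function.Bijective F := by
    constructor
    · rintro ⟨u, i⟩ ⟨v, j⟩ h
      have h' : D.F.e u * ev (sel D.a D.b) (pk i).2 = D.F.e v * ev (sel D.a D.b) (pk j).2 :=
        congrArg Subtype.val h
      have hc := congrArg D.F.cd h'
      rw [D.cd_e_mul u.2 (D.cd_word (hpk i)).1, D.cd_e_mul v.2 (D.cd_word (hpk j)).1,
        (D.cd_word (hpk i)).2, (D.cd_word (hpk j)).2, hpc, hpc] at hc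
      have hij : i = j := Fin.ext ((List.Nodup.getElem_inj_iff sylCodes_length.2).mp hc)
      subst hij
      exact Prod.ext (Fin.ext (D.F.e_inj u.2 v.2 (mul_right_cancel h'))) rfl
    · rintro ⟨x, hxN, hxc⟩
      obtain ⟨v, hv, p, hp, hxp⟩ := D.decomp hxN.1 (hNC x hxN)
      obtain ⟨i, hi, hic⟩ := List.getElem_of_mem hxc
      have hi8 : i < 8 := sylCodes_length.1 ▸ hi
      refine ⟨(⟨v, hv⟩, ⟨i, hi8⟩), Subtype.ext ?_⟩
      show D.F.e v * ev (sel D.a D.b) (pk ⟨i, hi8⟩).2 = x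
      have h1 : (pk ⟨i, hi8⟩).1 = p.1 := by
        exact (hpc _).trans (hic.trans (by rw [hxp, D.cd_e_mul hv (D.cd_word hp).1, (D.cd_word hp).2]))
      rw [hxp, List.inj_on_of_nodup_map D.hnodup (hpk _) hp h1]
  have hcard : Nat.card P0 = 2 ^ 7 := by
    rw [← Nat.card_eq_of_bijective F hF]; simp
  have hP0C : P0 ≤ S.C := fun x hx => hx.1.2
  obtain ⟨P, hP⟩ := IsPGroup.exists_le_sylow (IsPGroup.of_card hcard)
  refine ⟨P, ?_⟩
  by_contra hPC
  have htP0 : S.t ∈ P0 := he1 ▸ hUP 1 (by norm_num)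
  have hcentre : ∀ x ∈ P0, (∀ y ∈ P0, x * y = y * x) → x * x = 1 → x ≠ 1 → x = S.t := by
    intro x hx hxc hx2 hx1
    have hxU : x ∈ D.F.U := by
      rw [← D.hCU, Subgroup.mem_centralizer_iff]
      rintro _ ⟨v, hv, rfl⟩
      exact (hxc _ (hUP v hv)).symm
    obtain ⟨v, hv, rfl⟩ := hxU
    have hv2 : v < 2 := by
      have := hfix v hv
      simp only [Bool.or_eq_true, Nat.blt_eq, Bool.not_eq_true'] at this
      refine this.resolve_right fun hno => ?_
      refine Bool.eq_false_iff.mp hno (List.all_eq_true.mpr fun u hu => ?_)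
      have hwP : ev (sel D.a D.b) u ∈ P0 := ⟨hwC u, by
        obtain ⟨c, hc, hc'⟩ := hgens u hu
        rw [cd_ev D.F _ _ u (fun l _ => D.sel_mem l) (fun l _ => D.cd_sel l)]
        exact (Nat.eq_of_beq_eq_true hc').symm ▸ hc⟩
      have hconj := D.F.conj_eq (hwC u).1 v
      rw [cd_ev D.F _ _ u (fun l _ => D.sel_mem l) (fun l _ => D.cd_sel l)] at hconj
      rw [← hxc _ hwP, mul_inv_cancel_right] at hconj
      have happ : app (cev (sel codeA1 codeB1) u) v = v := (D.F.e_inj hv (app_lt _ _) hconj).symm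
      rw [happ]
      exact Nat.beq_refl v
    rcases (by omega : v = 0 ∨ v = 1) with rfl | rfl
    · exact absurd D.F.e_zero hx1
    · exact he1
  have hlt : P0 < (P : Subgroup G) := lt_of_le_of_ne hP fun h => hPC (h ▸ hP0C)
  have hQ := Group.normalizerCondition_of_isNilpotent (G := (P : Subgroup G)) (h := P.2.isNilpotent)
    (P0.subgroupOf (P : Subgroup G)) (lt_top_iff_ne_top.mpr fun h => hlt.2 (Subgroup.subgroupOf_eq_top.mp h))
  obtain ⟨⟨n, hnP⟩, hn, hn0⟩ := SetLike.exists_of_lt hQ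
  have hnC : n ∈ S.C := by
    have hnorm : ∀ x ∈ P0, n * x * n⁻¹ ∈ P0 := fun x hx =>
      (Subgroup.mem_normalizer_iff.mp hn ⟨x, hP hx⟩).mp hx
    have hnorm' : ∀ x ∈ P0, n⁻¹ * x * n ∈ P0 := fun x hx => by
      have := (Subgroup.mem_normalizer_iff.mp (inv_mem hn) ⟨x, hP hx⟩).mp hx
      have h2 : n⁻¹ * x * (n⁻¹)⁻¹ ∈ P0 := this
      rwa [inv_inv] at h2
    have key := hcentre (n * S.t * n⁻¹) (hnorm _ htP0) (fun y hy => by
      calc n * S.t * n⁻¹ * y = n * (S.t * (n⁻¹ * y * n)) * n⁻¹ := by group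
        _ = n * (n⁻¹ * y * n * S.t) * n⁻¹ := by rw [S.t_comm (hP0C (hnorm' y hy))]
        _ = y * (n * S.t * n⁻¹) := by group)
      (by rw [show n * S.t * n⁻¹ * (n * S.t * n⁻¹) = n * (S.t * S.t) * n⁻¹ by group, S.htt]; group)
      (fun h => S.t_ne_one (by
        rw [mul_inv_eq_one, mul_eq_left] at h; exact h))
    exact Subgroup.mem_centralizer_singleton_iff.mpr (mul_inv_eq_iff_eq_mul.mp key)
  set Q := P0 ⊔ Subgroup.zpowers n
  have hQP : Q ≤ (P : Subgroup G) := sup_le hP ((Subgroup.zpowers_le).mpr hnP)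
  have hQC : Q ≤ S.C := sup_le hP0C ((Subgroup.zpowers_le).mpr hnC)
  obtain ⟨k, hk⟩ := (P.2.to_le hQP).exists_card_eq
  have hlt' : P0 < Q := lt_of_le_of_ne le_sup_left fun h =>
    hn0 (show n ∈ P0 from h ▸ Subgroup.mem_sup_right (Subgroup.mem_zpowers n))
  have h128 : Nat.card P0 < Nat.card Q := by
    refine lt_of_le_of_ne (Nat.card_le_card_of_injective _ (Subgroup.inclusion_injective le_sup_left)) fun h => ?_
    exact hlt'.ne (Subgroup.eq_of_le_of_card_ge le_sup_left h.ge)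
  have hk8 : 8 ≤ k := by
    rw [hcard, hk] at h128
    exact Nat.succ_le_of_lt ((Nat.pow_lt_pow_iff_right (by norm_num)).mp h128)
  refine not_256_dvd ((pow_dvd_pow 2 hk8).trans ?_)
  rw [← hk, ← S.hcardC]
  exact Subgroup.card_dvd_of_le hQC

/-- All involutions are conjugate when the given one is conjugate to the second one. -/
theorem all_conj [Finite G] (hw : IsConj S.t S.w) {x : G} (hx : x * x = 1) (hx1 : x ≠ 1) :
    IsConj S.t x := by
  haveI : Fact (Nat.Prime 2) := ⟨Nat.prime_two⟩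
  obtain ⟨P, hP⟩ := S.exists_sylow
  have hpg : IsPGroup 2 (Subgroup.zpowers x) := by
    refine IsPGroup.of_card (n := 1) ?_
    rw [Nat.card_zpowers, pow_one]
    exact orderOf_eq_prime (by rw [pow_two, hx]) hx1
  obtain ⟨Q, hQ⟩ := hpg.exists_le_sylow
  obtain ⟨g, hg⟩ := MulAction.exists_smul_eq G Q P
  have hmem : g * x * g⁻¹ ∈ (P : Subgroup G) := by
    rw [← hg]
    exact ⟨x, hQ (Subgroup.mem_zpowers x), rfl⟩
  have hconj : IsConj x (g * x * g⁻¹) := isConj_iff.mpr ⟨g, rfl⟩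
  refine IsConj.trans ?_ hconj.symm
  rcases eq_or_ne (g * x * g⁻¹) S.t with h | h
  · rw [h]
  · obtain ⟨c, -, hc⟩ := S.inv_cases (hP hmem)
      (by rw [show g * x * g⁻¹ * (g * x * g⁻¹) = g * (x * x) * g⁻¹ by group, hx]; group)
      (fun h1 => hx1 (by rwa [mul_inv_eq_one, mul_eq_left] at h1)) h
    exact hw.trans (isConj_iff.mpr ⟨c, hc⟩)

/-- The classification of the elementary subgroups of order 16 of the centraliser. -/
theorem classify [Finite G] (E : Subgroup G) (hEC : E ≤ S.C) (htE : S.t ∈ E) (hcard : Nat.card E = 16)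
    (hsq : ∀ x ∈ E, x * x = 1) :
    ∃ c ∈ S.C, ∃ i : Bool, ∀ v, v < 16 →
      c * (bif i then S.basis checked1 else S.basis checked2).e v * c⁻¹ ∈ E := by
  classical
  let ψ : E →* Perm (Fin 8) := S.π.comp (Subgroup.inclusion hEC)
  have hker : Nat.card ψ.ker = 2 := by
    let f : Fin 2 → ψ.ker := ![⟨1, one_mem _⟩, ⟨⟨S.t, htE⟩, (S.hker ⟨S.t, hEC htE⟩).mpr (Or.inr rfl)⟩]
    have hb : Function.Bijective f := by
      refine ⟨fun i j h => ?_, fun ⟨⟨x, hxE⟩, hx⟩ => ?_⟩
      · fin_cases i <;> fin_cases j <;> simp [f] at h ⊢ <;>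
          first
            | exact S.t_ne_one (congrArg (fun z : ψ.ker => ((z : E) : G)) h).symm
            | exact S.t_ne_one (congrArg (fun z : ψ.ker => ((z : E) : G)) h)
      · rcases (S.hker ⟨x, hEC hxE⟩).mp hx with h | h
        · exact ⟨0, Subtype.ext (Subtype.ext h.symm)⟩
        · exact ⟨1, Subtype.ext (Subtype.ext h.symm)⟩
    simpa using (Nat.card_eq_of_bijective f hb).symm
  have hH : Nat.card ψ.range = 8 := by
    have := ψ.ker.card_mul_index
    rw [Subgroup.index_ker, hker, hcard] at this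
    omega
  obtain ⟨σ, hσ⟩ := exists_conj_eq_X ψ.range hH (by
    rintro _ ⟨x, rfl⟩
    rw [← map_mul, show x * x = 1 from Subtype.ext (hsq x x.2), map_one]) (by
    rintro _ ⟨x, rfl⟩ hne
    refine S.fpf (hEC x.2) (hsq x x.2) (fun h => hne ?_) (fun h => hne ?_)
    · exact (S.hker ⟨x, hEC x.2⟩).mpr (Or.inl h)
    · exact (S.hker ⟨x, hEC x.2⟩).mpr (Or.inr h))
  have key : ∀ (d : WordData) (h : Checked d) (ρ : Perm (Fin 8)), Perm.sign ρ = 1 → ρ * d.τ = σ →
      ∃ c ∈ S.C, ∀ v, v < 16 → c * (S.basis h).e v * c⁻¹ ∈ E := by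
    intro d h ρ hρ hρσ
    obtain ⟨s, hs⟩ := S.exists_pre hρ
    refine ⟨s, s.2, fun v hv => ?_⟩
    have hm := S.U_le h ((S.basis h).e_mem hv)
    obtain ⟨j, hj⟩ := h.imgX ⟨v, hv⟩
    obtain ⟨x, hx⟩ : σ * tr j * σ⁻¹ ∈ ψ.range := by rw [← hσ]; exact ⟨tr j, ⟨j, rfl⟩, rfl⟩
    have hπ : S.π (s * ⟨_, hm⟩ * s⁻¹) = S.π ⟨(x : G), hEC x.2⟩ := by
      rw [map_mul, map_mul, map_inv, hs, S.pi_e h v hm, hj]
      show _ = ψ x
      rw [hx, ← hρσ]; group
    rcases S.eq_of_map hπ with he | he <;> push_cast at he <;> rw [he]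
    · exact x.2
    · exact mul_mem x.2 htE
  rcases Int.units_eq_one_or (Perm.sign σ) with h1 | h1
  · obtain ⟨c, hc, hc'⟩ := key data1 checked1 σ h1 (mul_one σ)
    exact ⟨c, hc, true, hc'⟩
  · obtain ⟨c, hc, hc'⟩ := key data2 checked2 (σ * tauPerm⁻¹) (by
      rw [map_mul, map_inv, h1, tau_sign]; rfl) (inv_mul_cancel_right σ tauPerm)
    exact ⟨c, hc, false, hc'⟩

theorem card_local [Finite G] {d : WordData} (h : Checked d) :
    Nat.card ↥(Subgroup.normalizer ((S.basis h).U : Set G) ⊓ S.C) = 2688 := by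
  refine le_antisymm (S.card_local_le h) ?_
  set D := S.loc h
  let f : Fin 16 × Fin D.tbl.length → ↥(Subgroup.normalizer ((S.basis h).U : Set G) ⊓ S.C) := fun q =>
    ⟨D.F.e q.1 * ev (sel D.a D.b) (D.tbl[q.2]).2, by
      have := mul_mem (D.e_mem_S q.1.2) (D.L0_le (D.word_mem_L0 (D.tbl[q.2]).2))
      rw [show D.F.e 1 = S.t from S.basis_one h] at this
      exact this⟩
  refine le_trans (le_of_eq ?_) (Nat.card_le_card_of_injective f ?_)
  · rw [Nat.card_prod, Nat.card_fin, Nat.card_fin, D.hlen]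
  · rintro ⟨u, i⟩ ⟨v, j⟩ h'
    have h'' : D.F.e u * ev (sel D.a D.b) (D.tbl[i]).2 = D.F.e v * ev (sel D.a D.b) (D.tbl[j]).2 :=
      congrArg Subtype.val h'
    have hi := D.cd_word (List.getElem_mem (l := D.tbl) i.2)
    have hj := D.cd_word (List.getElem_mem (l := D.tbl) j.2)
    have hc := congrArg D.F.cd h''
    erw [D.cd_e_mul u.2 hi.1, D.cd_e_mul v.2 hj.1, hi.2, hj.2] at hc
    have hij : i = j := by
      have := (List.nodup_iff_injective_get.mp D.hnodup)
        (a₁ := ⟨i.1, by simp⟩) (a₂ := ⟨j.1, by simp⟩) (by simpa using hc)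
      exact Fin.ext (by simpa using congrArg Fin.val this)
    subst hij
    exact Prod.ext (Fin.ext (D.F.e_inj u.2 v.2 (mul_right_cancel h''))) rfl

/-- The normaliser of a frame is transitive on the vectors. -/
theorem transitive [Finite G] (hw : IsConj S.t S.w) {d : WordData} (h : Checked d) {y : ℕ}
    (hy : y < 16) (hy0 : y ≠ 0) :
    ∃ n ∈ Subgroup.normalizer ((S.basis h).U : Set G),
      n * (S.basis h).e 1 * n⁻¹ = (S.basis h).e y := by
  classical
  set F := S.basis h with hF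
  set N := Subgroup.normalizer (F.U : Set G) with hN
  let B : Bool → Basis G := fun i => bif i then S.basis checked1 else S.basis checked2
  have hB : ∀ i, Nat.card ↥(Subgroup.normalizer ((B i).U : Set G) ⊓ S.C) = 2688 := fun i => by
    cases i
    · exact S.card_local checked2
    · exact S.card_local checked1
  have hpt : ∀ v : {v : Fin 16 // v ≠ 0}, F.e v.1 * F.e v.1 = 1 ∧ F.e v.1 ≠ 1 := fun v =>
    ⟨F.e_self _, fun h0 => v.2 (Fin.ext ((F.e_eq_one v.1.2).mp h0))⟩
  have hex : ∀ v : {v : Fin 16 // v ≠ 0}, ∃ (m : G) (i : Bool), m * F.e v.1 * m⁻¹ = S.t ∧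
      (B i).U.map (MulAut.conj m⁻¹).toMonoidHom = F.U := by
    intro v
    obtain ⟨k, hk⟩ := isConj_iff.mp (S.all_conj hw (hpt v).1 (hpt v).2)
    set E := F.U.map (MulAut.conj k⁻¹).toMonoidHom with hE
    have hmemE : ∀ u, u < 16 → k⁻¹ * F.e u * k ∈ E := fun u hu =>
      ⟨F.e u, F.e_mem hu, by simp⟩
    have htE : S.t ∈ E := by
      refine ⟨F.e v.1, F.e_mem v.1.2, ?_⟩
      show k⁻¹ * F.e v.1 * (k⁻¹)⁻¹ = S.t
      rw [← hk]; group
    obtain ⟨c, hc, i, hci⟩ := S.classify E (by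
      rintro _ ⟨x, ⟨u, hu, rfl⟩, rfl⟩
      refine Subgroup.mem_centralizer_singleton_iff.mpr ?_
      show k⁻¹ * F.e u * (k⁻¹)⁻¹ * S.t = S.t * (k⁻¹ * F.e u * (k⁻¹)⁻¹)
      rw [show S.t = k⁻¹ * F.e v.1 * (k⁻¹)⁻¹ by rw [← hk]; group]
      calc k⁻¹ * F.e u * (k⁻¹)⁻¹ * (k⁻¹ * F.e v.1 * (k⁻¹)⁻¹)
          = k⁻¹ * (F.e u * F.e v.1) * (k⁻¹)⁻¹ := by group
        _ = k⁻¹ * (F.e v.1 * F.e u) * (k⁻¹)⁻¹ := by rw [(F.e_comm u v.1).eq]
        _ = _ := by group) htE (by
      rw [hE, Subgroup.card_map_of_injective (MulAut.conj k⁻¹).injective, F.card_U]) (by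
      rintro _ ⟨x, ⟨u, hu, rfl⟩, rfl⟩
      rw [← map_mul, F.e_self, map_one])
    refine ⟨c⁻¹ * k⁻¹, i, ?_, ?_⟩
    · rw [show c⁻¹ * k⁻¹ * F.e v.1 * (c⁻¹ * k⁻¹)⁻¹ = c⁻¹ * (k⁻¹ * F.e v.1 * k) * c by group,
        show k⁻¹ * F.e v.1 * k = S.t by rw [← hk]; group, mul_assoc, ← S.t_comm hc, inv_mul_cancel_left]
    · refine Subgroup.eq_of_le_of_card_ge ?_ ?_
      · rintro _ ⟨x, ⟨u, hu, rfl⟩, rfl⟩
        obtain ⟨z, ⟨r, hr, rfl⟩, hz⟩ := hci u hu
        show (c⁻¹ * k⁻¹)⁻¹ * (B i).e u * ((c⁻¹ * k⁻¹)⁻¹)⁻¹ ∈ F.U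
        have hz' : k⁻¹ * F.e r * (k⁻¹)⁻¹ = c * (B i).e u * c⁻¹ := hz
        rw [show (c⁻¹ * k⁻¹)⁻¹ * (B i).e u * ((c⁻¹ * k⁻¹)⁻¹)⁻¹ =
          k * (c * (B i).e u * c⁻¹) * k⁻¹ by group, ← hz',
          show k * (k⁻¹ * F.e r * (k⁻¹)⁻¹) * k⁻¹ = F.e r by group]
        exact F.e_mem hr
      · rw [Subgroup.card_map_of_injective (MulAut.conj _).injective, F.card_U, (B i).card_U]
  choose m ix hm hmap using hex
  -- stabilisers all have the same order
  letI : MulAction N G := MulAction.compHom G (ConjAct.toConjAct.toMonoidHom.comp N.subtype)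
  have hsmul : ∀ (n : N) (x : G), n • x = n.1 * x * n.1⁻¹ := fun n x => rfl
  let pt : {v : Fin 16 // v ≠ 0} → G := fun v => F.e v.1
  have hnorm : ∀ (v : {v : Fin 16 // v ≠ 0}) (x : G), x ∈ N ↔
      m v * x * (m v)⁻¹ ∈ Subgroup.normalizer ((B (ix v)).U : Set G) := by
    intro v x
    set α := MulAut.conj (m v)⁻¹ with hα
    have hiff : ∀ y, α y ∈ F.U ↔ y ∈ (B (ix v)).U := fun y => by
      rw [← hmap v]; exact Subgroup.mem_map_iff_mem α.injective
    rw [hN, Subgroup.mem_normalizer_iff, Subgroup.mem_normalizer_iff]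
    have hax : α (m v * x * (m v)⁻¹) = x := by simp [hα, mul_assoc]
    constructor
    · intro hx y
      rw [← hiff, ← hiff, map_mul, map_mul, map_inv, hax]
      exact hx (α y)
    · intro hx y
      have := hx (α.symm y)
      rw [← hiff, ← hiff, map_mul, map_mul, map_inv, hax, α.apply_symm_apply] at this
      exact this
  have hfix : ∀ (v : {v : Fin 16 // v ≠ 0}) (x : G), x * pt v * x⁻¹ = pt v ↔ m v * x * (m v)⁻¹ ∈ S.C := by
    intro v x
    rw [Subgroup.mem_centralizer_singleton_iff, ← mul_inv_eq_iff_eq_mul]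
    show _ ↔ _ = S.t
    conv_rhs => rw [← hm v]
    constructor
    · intro hx
      calc _ = m v * (x * pt v * x⁻¹) * (m v)⁻¹ := by simp only [pt]; group
        _ = _ := by rw [hx]
    · intro hx
      have h2 : m v * (x * pt v * x⁻¹) * (m v)⁻¹ = m v * pt v * (m v)⁻¹ := Eq.trans (by simp only [pt]; group) hx
      exact mul_left_cancel (mul_right_cancel h2)
  have hstab : ∀ v, Nat.card (MulAction.stabilizer N (pt v)) = 2688 := by
    intro v
    rw [← hB (ix v)]
    refine Nat.card_congr ?_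
    refine ⟨fun n => ⟨m v * n.1.1 * (m v)⁻¹, (hnorm v _).mp n.1.2, (hfix v _).mp n.2⟩,
      fun z => ⟨⟨(m v)⁻¹ * z.1 * m v, (hnorm v _).mpr (by
        rw [show m v * ((m v)⁻¹ * z.1 * m v) * (m v)⁻¹ = z.1 by group]; exact z.2.1)⟩,
        (hfix v _).mpr ((show m v * ((m v)⁻¹ * z.1 * m v) * (m v)⁻¹ = z.1 by group).symm ▸ z.2.2)⟩,
      fun n => Subtype.ext (Subtype.ext (by show (m v)⁻¹ * (m v * n.1.1 * (m v)⁻¹) * m v = n.1.1; group)),
      fun z => Subtype.ext (by show m v * ((m v)⁻¹ * z.1 * m v) * (m v)⁻¹ = z.1; group)⟩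
  let O : {v : Fin 16 // v ≠ 0} → Finset {v : Fin 16 // v ≠ 0} := fun v =>
    Finset.univ.filter fun u => ∃ n : N, n • pt v = pt u
  have hptinj : Function.Injective pt := fun u v huv =>
    Subtype.ext (Fin.ext (F.e_inj u.1.2 v.1.2 huv))
  have hmul : ∀ v, (O v).card * 2688 = Nat.card N := by
    intro v
    rw [← hstab v, ← (MulAction.stabilizer N (pt v)).index_mul_card, MulAction.index_stabilizer]
    congr 1
    have himg : MulAction.orbit N (pt v) = pt '' (O v : Set {v : Fin 16 // v ≠ 0}) := by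
      ext z
      constructor
      · rintro ⟨n, rfl⟩
        obtain ⟨u, hu, he⟩ := (Subgroup.mem_normalizer_iff.mp n.2 _).mp (F.e_mem v.1.2)
        have hu0 : (⟨u, hu⟩ : Fin 16) ≠ 0 := fun h0 => by
          have hu' : u = 0 := congrArg Fin.val h0
          rw [hu', F.e_zero, eq_comm, mul_inv_eq_one, mul_eq_left] at he
          exact (hpt v).2 he
        refine ⟨⟨⟨u, hu⟩, hu0⟩, Finset.mem_coe.mpr (Finset.mem_filter.mpr ⟨Finset.mem_univ _, n, he.symm⟩), he⟩
      · rintro ⟨u, hu, rfl⟩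
        obtain ⟨n, hn⟩ := (Finset.mem_filter.mp (Finset.mem_coe.mp hu)).2
        exact ⟨n, hn⟩
    rw [himg, Set.ncard_image_of_injective _ hptinj, Set.ncard_coe_finset]
  have hclass : ∀ u v, ix u = ix v → u ∈ O v := by
    intro u v huv
    refine Finset.mem_filter.mpr ⟨Finset.mem_univ _, ⟨(m u)⁻¹ * m v, ?_⟩, ?_⟩
    · have hα : F.U.map (MulAut.conj ((m u)⁻¹ * m v)).toMonoidHom = F.U := by
        have hv' : F.U.map (MulAut.conj (m v)).toMonoidHom = (B (ix v)).U := by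
          rw [← hmap v, Subgroup.map_map]
          convert Subgroup.map_id _ using 2
          ext x; simp [mul_assoc]
        calc F.U.map (MulAut.conj ((m u)⁻¹ * m v)).toMonoidHom
            = (F.U.map (MulAut.conj (m v)).toMonoidHom).map (MulAut.conj (m u)⁻¹).toMonoidHom := by
              rw [Subgroup.map_map, map_mul]; rfl
          _ = (B (ix u)).U.map (MulAut.conj (m u)⁻¹).toMonoidHom := by rw [hv', huv]
          _ = F.U := hmap u
      rw [hN, Subgroup.mem_normalizer_iff]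
      intro y
      conv_rhs => rw [← hα]
      exact (Subgroup.mem_map_iff_mem (MulAut.conj ((m u)⁻¹ * m v)).injective).symm
    · show (m u)⁻¹ * m v * pt v * ((m u)⁻¹ * m v)⁻¹ = pt u
      calc _ = (m u)⁻¹ * (m v * F.e v.1 * (m v)⁻¹) * m u := by simp only [pt]; group
        _ = (m u)⁻¹ * (m u * F.e u.1 * (m u)⁻¹) * m u := by rw [hm, hm]
        _ = _ := by simp only [pt]; group
  set v1 : {v : Fin 16 // v ≠ 0} := ⟨1, by decide⟩
  have hall : O v1 = Finset.univ := by
    by_contra hne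
    obtain ⟨z, hz⟩ : ∃ z, z ∉ O v1 := by
      by_contra hh; push Not at hh; exact hne (Finset.eq_univ_of_forall hh)
    have hdisj : ∀ u, u ∉ O v1 → ix u ≠ ix v1 := fun u hu he => hu (hclass u v1 he)
    have hcompl : (O v1)ᶜ = O z := by
      ext u
      rw [Finset.mem_compl]
      constructor
      · intro hu
        refine hclass u z ?_
        have h1 := hdisj u hu
        have h2 := hdisj z hz
        revert h1 h2
        cases ix u <;> cases ix z <;> cases ix v1 <;> decide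
      · intro hu hu1
        obtain ⟨n1, hn1⟩ := (Finset.mem_filter.mp hu1).2
        obtain ⟨n, hn⟩ := (Finset.mem_filter.mp hu).2
        refine hz (Finset.mem_filter.mpr ⟨Finset.mem_univ _, n⁻¹ * n1, ?_⟩)
        rw [mul_smul, hn1, ← hn, inv_smul_smul]
    have h15 : (O v1).card + (O z).card = 15 := by
      rw [← hcompl, Finset.card_add_card_compl]; decide
    have he : (O v1).card = (O z).card := Nat.eq_of_mul_eq_mul_right (by norm_num) ((hmul v1).trans (hmul z).symm)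
    omega
  have : (⟨⟨y, hy⟩, fun h0 => hy0 (congrArg Fin.val h0)⟩ : {v : Fin 16 // v ≠ 0}) ∈ O v1 :=
    hall ▸ Finset.mem_univ _
  obtain ⟨n, hn⟩ := (Finset.mem_filter.mp this).2
  exact ⟨n.1, n.2, hn⟩

end Setting

end Cfsg.Agent.McLType
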