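import Cfsg.Agent.Lib.McLType.Setting

/-!
# The two frames in a setting

* `WordData`, `data1`, `data2`, `Checked`
* `Setting.basis`, `Setting.loc`, `Setting.piU`
-/

set_option autoImplicit false
set_option linter.style.haveILetI false

namespace Cfsg.Agent.McLType

open Equiv

/-- A permutation of eight points from a list. -/
def tauPerm : Perm (Fin 8) :=
  let l := tauList
  let fn : Fin 8 → Fin 8 := fun x => ⟨l.getD x.1 0 % 8, Nat.mod_lt _ (by norm_num)⟩
  let iv : Fin 8 → Fin 8 := fun x => ⟨l.idxOf x.1 % 8, Nat.mod_lt _ (by norm_num)⟩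
  if h : (∀ x, iv (fn x) = x) ∧ ∀ x, fn (iv x) = x then ⟨fn, iv, h.1, h.2⟩ else 1

/-- The data of a frame. -/
structure WordData where
  B : List (List ℕ)
  la : List ℕ
  lb : List ℕ
  ca : ℕ
  cb : ℕ
  tbl : List (ℕ × List ℕ)
  τ : Perm (Fin 8)

/-- The first frame. -/
def data1 : WordData := ⟨basis1, [0], [1], codeA1, codeB1, table1, 1⟩

/-- The second frame. -/
def data2 : WordData := ⟨basis2, wordC, [3], codeA2, codeB2, table2, tauPerm⟩

/-- The elementary conditions. -/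
def basisOK (d : WordData) : Bool :=
  (List.range 4).all (fun i => (List.range 4).all fun j =>
    eqOK (d.B.getD i [] ++ d.B.getD j []) (bif Nat.beq i j then [] else d.B.getD j [] ++ d.B.getD i [])) &&
  (List.range 15).all (fun v => neOK (vecWord d.B (v + 1)) []) &&
  eqOK (d.B.getD 0 []) tWord && eqOK (d.B.getD 1 []) wWord

/-- One generator acts by a code. -/
def genOK (B : List (List ℕ)) (g : List ℕ) (c : ℕ) : Bool :=
  Nat.beq (mkCode (nib c 0) (nib c 1) (nib c 2) (nib c 3)) c &&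
    (List.range 4).all fun j => eqOK (g ++ B.getD j []) (vecWord B (nib c j) ++ g)

/-- The conditions on the table. -/
def tableOK (d : WordData) : Bool :=
  d.tbl.all (fun p => Nat.beq (cev (sel d.ca d.cb) p.2) p.1) &&
  d.tbl.all (fun p => !Nat.beq p.1 cid || p.2.isEmpty) &&
  d.tbl.any (fun p => Nat.beq p.1 cid && p.2.isEmpty) &&
  lRels.all (fun u => eqOK (u.flatMap (sel d.la d.lb)) [])

/-- The closure of the table under one letter. -/
def closedOK (d : WordData) (l : ℕ) : Bool :=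
  d.tbl.all fun p => d.tbl.any fun q => Nat.beq (comp (sel d.ca d.cb l) p.1) q.1 &&
    eqOK ((l :: p.2).flatMap (sel d.la d.lb)) (q.2.flatMap (sel d.la d.lb))

/-- All the conditions. -/
structure Checked (d : WordData) : Prop where
  basis : basisOK d = true
  genA : genOK d.B d.la d.ca = true
  genB : genOK d.B d.lb d.cb = true
  table : tableOK d = true
  closed0 : closedOK d 0 = true
  closed1 : closedOK d 1 = true
  nodup : (d.tbl.map Prod.fst).Nodup
  len : d.tbl.length = 168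
  fixA : app d.ca 1 = 1
  fixB : app d.cb 1 = 1
  imgX : ∀ v : Fin 16, ∃ j : Fin 8, ev pi5 (vecWord d.B v) = d.τ * tr j * d.τ⁻¹
  ontoX : ∀ j : Fin 8, ∃ v : Fin 16, ev pi5 (vecWord d.B v) = d.τ * tr j * d.τ⁻¹

set_option maxHeartbeats 0 in
theorem checked1 : Checked data1 := by
  refine ⟨?_, ?_, ?_, ?_, ?_, ?_, ?_, rfl, ?_, ?_, ?_, ?_⟩ <;> decide +kernel

set_option maxHeartbeats 0 in
theorem checked2 : Checked data2 := by
  refine ⟨?_, ?_, ?_, ?_, ?_, ?_, ?_, rfl, ?_, ?_, ?_, ?_⟩ <;> decide +kernel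

theorem tau_sign : Perm.sign tauPerm = -1 := by decide +kernel

namespace Setting

variable {G : Type*} [Group G] (S : Setting G) {d : WordData}

theorem eval_app {u v x y : List ℕ} (h : eqOK (u ++ v) (x ++ y) = true) :
    ev S.fG u * ev S.fG v = ev S.fG x * ev S.fG y := by
  rw [← ev_append, ← ev_append]; exact S.eval_eq h

theorem ev_vecWord (B : List (List ℕ)) (v : ℕ) : ev S.fG (vecWord B v) =
    pick (Nat.testBit v 0) (ev S.fG (B.getD 0 [])) * pick (Nat.testBit v 1) (ev S.fG (B.getD 1 [])) *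
    pick (Nat.testBit v 2) (ev S.fG (B.getD 2 [])) * pick (Nat.testBit v 3) (ev S.fG (B.getD 3 [])) := by
  have h : ∀ (p : Bool) (u : List ℕ), ev S.fG (bif p then u else []) = pick p (ev S.fG u) := fun p u => by
    cases p <;> rfl
  rw [vecWord, ev_append, ev_append, ev_append, h, h, h, h]

/-- The basis of a frame. -/
def basis (h : Checked d) : Basis G :=
  have hb := h.basis
  have hall : ∀ i j, i < 4 → j < 4 → ev S.fG (d.B.getD i []) * ev S.fG (d.B.getD j []) =
      ev S.fG (bif Nat.beq i j then [] else d.B.getD j [] ++ d.B.getD i []) := fun i j hi hj => by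
    simp only [basisOK, Bool.and_eq_true, List.all_eq_true, List.mem_range] at hb
    rw [← ev_append]
    exact S.eval_eq (hb.1.1.1 i hi j hj)
  { b0 := ev S.fG (d.B.getD 0 [])
    b1 := ev S.fG (d.B.getD 1 [])
    b2 := ev S.fG (d.B.getD 2 [])
    b3 := ev S.fG (d.B.getD 3 [])
    sq0 := hall 0 0 (by norm_num) (by norm_num)
    sq1 := hall 1 1 (by norm_num) (by norm_num)
    sq2 := hall 2 2 (by norm_num) (by norm_num)
    sq3 := hall 3 3 (by norm_num) (by norm_num)
    c01 := (hall 0 1 (by norm_num) (by norm_num)).trans (ev_append _ _ _)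
    c02 := (hall 0 2 (by norm_num) (by norm_num)).trans (ev_append _ _ _)
    c03 := (hall 0 3 (by norm_num) (by norm_num)).trans (ev_append _ _ _)
    c12 := (hall 1 2 (by norm_num) (by norm_num)).trans (ev_append _ _ _)
    c13 := (hall 1 3 (by norm_num) (by norm_num)).trans (ev_append _ _ _)
    c23 := (hall 2 3 (by norm_num) (by norm_num)).trans (ev_append _ _ _)
    free := fun v hv h0 => by
      rw [← S.ev_vecWord, ← ev_nil S.fG]
      simp only [basisOK, Bool.and_eq_true, List.all_eq_true, List.mem_range] at hb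
      have := hb.1.1.2 (v - 1) (by omega)
      rw [Nat.sub_add_cancel (Nat.pos_of_ne_zero h0)] at this
      exact S.eval_ne this }

theorem basis_e (h : Checked d) (v : ℕ) : (S.basis h).e v = ev S.fG (vecWord d.B v) :=
  (S.ev_vecWord d.B v).symm

theorem basis_one (h : Checked d) : (S.basis h).e 1 = S.t := by
  rw [(S.basis h).e_basis.1]
  have hb := h.basis
  simp only [basisOK, Bool.and_eq_true] at hb
  exact (S.eval_eq hb.1.2).trans S.t_eq

theorem basis_two (h : Checked d) : (S.basis h).e 2 = S.w := by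
  rw [(S.basis h).e_basis.2.1]
  have hb := h.basis
  simp only [basisOK, Bool.and_eq_true] at hb
  exact S.eval_eq hb.2

theorem U_le (h : Checked d) : (S.basis h).U ≤ S.C := by
  rintro _ ⟨v, -, rfl⟩
  rw [S.basis_e]
  exact S.evG_mem _

theorem pi_e (h : Checked d) (v : ℕ) (hm : (S.basis h).e v ∈ S.C) :
    S.π ⟨(S.basis h).e v, hm⟩ = ev pi5 (vecWord d.B v) := by
  rw [← S.pi_ev]
  exact congrArg S.π (Subtype.ext ((S.basis_e h v).trans (S.ev_fG _)))

theorem htt : S.t * S.t = 1 := by rw [← pow_two, ← S.ht, pow_orderOf_eq_one]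

/-- Membership is detected in the image. -/
theorem mem_U_iff (h : Checked d) {x : G} (hx : x ∈ S.C) :
    x ∈ (S.basis h).U ↔ ∃ j, S.π ⟨x, hx⟩ = d.τ * tr j * d.τ⁻¹ := by
  constructor
  · rintro ⟨v, hv, rfl⟩
    obtain ⟨j, hj⟩ := h.imgX ⟨v, hv⟩
    exact ⟨j, by rw [S.pi_e]; exact hj⟩
  · rintro ⟨j, hj⟩
    obtain ⟨v, hv⟩ := h.ontoX j
    have hm := S.U_le h ((S.basis h).e_mem v.2)
    rcases S.eq_of_map (x := ⟨x, hx⟩) (y := ⟨_, hm⟩) (by rw [hj, S.pi_e h v.1 hm, hv]) with he | he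
    · exact ⟨v, v.2, he.symm⟩
    · refine ⟨v.1 ^^^ 1, Nat.xor_lt_two_pow (n := 4) v.2 (by norm_num), ?_⟩
      rw [(S.basis h).e_xor, S.basis_one]
      exact he.symm

theorem centralizer_U (h : Checked d) : Subgroup.centralizer ((S.basis h).U : Set G) = (S.basis h).U := by
  refine le_antisymm (fun x hx => ?_) fun x hx => ?_
  · rw [Subgroup.mem_centralizer_iff] at hx
    have hxC : x ∈ S.C := Subgroup.mem_centralizer_singleton_iff.mpr
      (hx S.t (S.basis_one h ▸ (S.basis h).e_mem (by norm_num))).symm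
    rw [S.mem_U_iff h hxC]
    refine ⟨(d.τ⁻¹ * S.π ⟨x, hxC⟩ * d.τ) 0, ?_⟩
    rw [← eq_tr_of_commute (q := d.τ⁻¹ * S.π ⟨x, hxC⟩ * d.τ) fun j => ?_]
    · group
    · obtain ⟨v, hv⟩ := h.ontoX j
      have hm := S.U_le h ((S.basis h).e_mem v.2)
      have hc : S.π ⟨x, hxC⟩ * (d.τ * tr j * d.τ⁻¹) = d.τ * tr j * d.τ⁻¹ * S.π ⟨x, hxC⟩ := by
        rw [← hv, ← S.pi_e h v.1 hm, ← map_mul, ← map_mul]
        exact congrArg S.π (Subtype.ext (hx _ ((S.basis h).e_mem v.2)).symm)
      calc d.τ⁻¹ * S.π ⟨x, hxC⟩ * d.τ * tr j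
          = d.τ⁻¹ * (S.π ⟨x, hxC⟩ * (d.τ * tr j * d.τ⁻¹)) * d.τ := by group
        _ = d.τ⁻¹ * (d.τ * tr j * d.τ⁻¹ * S.π ⟨x, hxC⟩) * d.τ := by rw [hc]
        _ = _ := by group
  · rw [Subgroup.mem_centralizer_iff]
    obtain ⟨u, _, rfl⟩ := hx
    rintro _ ⟨v, _, rfl⟩
    exact ((S.basis h).e_comm v u).eq

theorem card_local_le [Finite G] (h : Checked d) :
    Nat.card ↥(Subgroup.normalizer ((S.basis h).U : Set G) ⊓ S.C) ≤ 2688 := by
  classical
  set N := Subgroup.normalizer ((S.basis h).U : Set G) ⊓ S.C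
  let ψ : N →* Perm (Fin 8) :=
    (MulAut.conj d.τ⁻¹).toMonoidHom.comp (S.π.comp (Subgroup.inclusion (inf_le_right)))
  have hψ : ψ.range ≤ Subgroup.normalizer (X : Set (Perm (Fin 8))) := by
    rintro _ ⟨⟨n, hn⟩, rfl⟩
    refine Subgroup.mem_normalizer_iff.mpr ?_
    have hkey : ∀ (m : G) (hm : m ∈ N), ∀ j, ∃ i,
        (d.τ⁻¹ * S.π ⟨m, hm.2⟩ * d.τ) * tr j *
          (d.τ⁻¹ * S.π ⟨m, hm.2⟩ * d.τ)⁻¹ = tr i := by
      intro m hm j
      obtain ⟨v, hv⟩ := h.ontoX j
      have hu := (Subgroup.mem_normalizer_iff.mp hm.1 _).mp ((S.basis h).e_mem v.2)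
      have hmU := S.U_le h ((S.basis h).e_mem v.2)
      obtain ⟨i, hi⟩ := (S.mem_U_iff h (mul_mem (mul_mem hm.2 hmU) (inv_mem hm.2))).mp hu
      have : S.π ⟨m, hm.2⟩ * (d.τ * tr j * d.τ⁻¹) * (S.π ⟨m, hm.2⟩)⁻¹ = d.τ * tr i * d.τ⁻¹ := by
        rw [← hv, ← S.pi_e h v.1 hmU, ← hi, ← map_inv, ← map_mul, ← map_mul]
        rfl
      exact ⟨i, by
        calc _ = d.τ⁻¹ * (S.π ⟨m, hm.2⟩ * (d.τ * tr j * d.τ⁻¹) * (S.π ⟨m, hm.2⟩)⁻¹) * d.τ := by group
          _ = d.τ⁻¹ * (d.τ * tr i * d.τ⁻¹) * d.τ := by rw [this]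
          _ = tr i := by group⟩
    have e : ψ ⟨n, hn⟩ = d.τ⁻¹ * S.π ⟨n, hn.2⟩ * d.τ := by
      show d.τ⁻¹ * S.π ⟨n, hn.2⟩ * (d.τ⁻¹)⁻¹ = _
      rw [inv_inv]
    intro x
    constructor
    · rintro ⟨j, rfl⟩
      obtain ⟨i, hi⟩ := hkey n hn j
      exact ⟨i, by rw [e]; exact hi.symm⟩
    · intro hx
      obtain ⟨j, hj⟩ := hx
      obtain ⟨i, hi⟩ := hkey n⁻¹ (inv_mem hn) j
      refine ⟨i, ?_⟩
      have e' : d.τ⁻¹ * S.π ⟨n⁻¹, inv_mem hn.2⟩ * d.τ = (ψ ⟨n, hn⟩)⁻¹ := by
        rw [e, show (⟨n⁻¹, inv_mem hn.2⟩ : S.C) = (⟨n, hn.2⟩ : S.C)⁻¹ from rfl, map_inv]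
        group
      rw [← hi, e', hj]
      group
  have hker : Nat.card ψ.ker ≤ 2 := by
    let g : ψ.ker → Fin 2 := fun x => if (x.1 : G) = 1 then 0 else 1
    refine le_trans (Nat.card_le_card_of_injective g ?_) (by simp)
    have hcases : ∀ x : ψ.ker, (x.1 : G) = 1 ∨ (x.1 : G) = S.t := fun x => by
      refine (S.hker ⟨x.1, x.1.2.2⟩).mp ?_
      exact (MulEquiv.map_eq_one_iff (MulAut.conj d.τ⁻¹)).mp x.2
    intro x y hxy
    refine Subtype.ext (Subtype.ext ?_)
    have ht1 : S.t ≠ 1 := fun h => by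
      have := S.ht; rw [h, orderOf_one] at this; exact absurd this (by decide)
    rcases hcases x with hx | hx <;> rcases hcases y with hy | hy
    · rw [hx, hy]
    · simp only [g, if_pos hx, if_neg (fun h : (y.1 : G) = 1 => ht1 (hy.symm.trans h))] at hxy
      exact absurd hxy (by decide)
    · simp only [g, if_pos hy, if_neg (fun h : (x.1 : G) = 1 => ht1 (hx.symm.trans h))] at hxy
      exact absurd hxy (by decide)
    · rw [hx, hy]
  rw [← ψ.ker.card_mul_index, Subgroup.index_ker]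
  calc Nat.card ψ.ker * Nat.card ψ.range ≤ 2 * 1344 := Nat.mul_le_mul hker (card_normalizer_X_le _ hψ)
    _ = 2688 := rfl

/-- A generator of a frame. -/
theorem gen_spec [Finite G] (h : Checked d) {g : List ℕ} {c : ℕ} (hg : genOK d.B g c = true) :
    ev S.fG g ∈ Subgroup.normalizer ((S.basis h).U : Set G) ∧ (S.basis h).cd (ev S.fG g) = c := by
  simp only [genOK, Bool.and_eq_true, List.all_eq_true, List.mem_range] at hg
  have key : ∀ j, j < 4 → ev S.fG g * ev S.fG (d.B.getD j []) * (ev S.fG g)⁻¹ = (S.basis h).e (nib c j) :=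
    fun j hj => by rw [S.eval_app (hg.2 j hj), mul_inv_cancel_right, S.basis_e]
  obtain ⟨h1, h2⟩ := (S.basis h).cd_of_images (nib_lt c 0) (nib_lt c 1) (nib_lt c 2) (nib_lt c 3)
    (key 0 (by norm_num)) (key 1 (by norm_num)) (key 2 (by norm_num)) (key 3 (by norm_num))
  exact ⟨h1, h2.trans (Nat.eq_of_beq_eq_true hg.1)⟩

theorem ev_sel (u : List ℕ) (la lb : List ℕ) :
    ev (sel (ev S.fG la) (ev S.fG lb)) u = ev S.fG (u.flatMap (sel la lb)) := by
  rw [ev_flatMap]
  refine ev_congr u fun l _ => ?_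
  unfold sel
  cases Nat.beq l 0 <;> rfl

/-- The frame as a local configuration. -/
def loc [Finite G] (h : Checked d) : Loc G where
  F := S.basis h
  a := ev S.fG d.la
  b := ev S.fG d.lb
  ca := d.ca
  cb := d.cb
  tbl := d.tbl
  haN := (S.gen_spec h h.genA).1
  hbN := (S.gen_spec h h.genB).1
  hca := (S.gen_spec h h.genA).2
  hcb := (S.gen_spec h h.genB).2
  hat := by rw [(S.basis h).conj_eq (S.gen_spec h h.genA).1, (S.gen_spec h h.genA).2, h.fixA]
  hbt := by rw [(S.basis h).conj_eq (S.gen_spec h h.genB).1, (S.gen_spec h h.genB).2, h.fixB]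
  hCU := S.centralizer_U h
  hword := fun p hp => by
    have ht := h.table
    simp only [tableOK, Bool.and_eq_true, List.all_eq_true] at ht
    exact Nat.eq_of_beq_eq_true (ht.1.1.1 p hp)
  hclosed := fun p hp l hl => by
    have hc : closedOK d l = true := by
      rcases List.mem_cons.mp hl with rfl | hl
      · exact h.closed0
      · rw [List.mem_singleton.mp hl]; exact h.closed1
    obtain ⟨q, hq, hq'⟩ := List.any_eq_true.mp (List.all_eq_true.mp hc p hp)
    rw [Bool.and_eq_true] at hq'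
    exact ⟨q, hq, by rw [S.ev_sel, S.ev_sel]; exact S.eval_eq hq'.2⟩
  hnodup := h.nodup
  hlen := h.len
  hid := fun p hp hp1 => by
    have ht := h.table
    simp only [tableOK, Bool.and_eq_true, List.all_eq_true] at ht
    have := ht.1.1.2 p hp
    rw [hp1, Nat.beq_refl] at this
    simpa using this
  hnil := by
    have ht := h.table
    simp only [tableOK, Bool.and_eq_true] at ht
    obtain ⟨p, hp, hp'⟩ := List.any_eq_true.mp ht.1.2
    rw [Bool.and_eq_true, List.isEmpty_iff] at hp'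
    exact (show p = (cid, []) from Prod.ext (Nat.eq_of_beq_eq_true hp'.1) hp'.2) ▸ hp
  hrels := fun u hu => by
    have ht := h.table
    simp only [tableOK, Bool.and_eq_true, List.all_eq_true] at ht
    rw [S.ev_sel, S.eval_eq (ht.2 u hu), ev_nil]
  hS := by rw [S.basis_one]; exact S.card_local_le h

/-- The first frame. -/
def loc1 [Finite G] : Loc G := S.loc checked1

/-- The second frame. -/
def loc2 [Finite G] : Loc G := S.loc checked2

end Setting

end Cfsg.Agent.McLType
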