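import Cfsg.Agent.Lib.McLType.ModelData
import Cfsg.Agent.Lib.McLType.Basis

/-!
# Permutations of 240 points from packed tables, and word comparison

* `yP`, `p5`, `eqOK`, `neOK`, `eq_of_eqOK`, `ne_of_neOK`
-/

set_option autoImplicit false

namespace Cfsg.Agent.McLType

/-- Lookup in a packed table. -/
def look8 (T : ℕ) (x : ℕ) : ℕ := (T >>> (8 * x)) &&& 255

/-- A point from a table. -/
def tabFun (T : ℕ) (x : Fin 240) : Fin 240 := ⟨look8 T x.1 % 240, Nat.mod_lt _ (by norm_num)⟩

/-- The table of a generator. -/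
def yT (i : ℕ) : ℕ := yTab.getD i 0

/-- The table of an inverse generator. -/
def yU (i : ℕ) : ℕ := yInvTab.getD i 0

theorem yP_spec : ∀ i : Fin 6, ∀ x : Fin 240,
    tabFun (yU i) (tabFun (yT i) x) = x ∧ tabFun (yT i) (tabFun (yU i) x) = x := by decide +kernel

/-- The permutation of a generator. -/
def yP (i : ℕ) : Equiv.Perm (Fin 240) :=
  if h : i < 6 then ⟨tabFun (yT i), tabFun (yU i), fun x => (yP_spec ⟨i, h⟩ x).1,
    fun x => (yP_spec ⟨i, h⟩ x).2⟩ else 1

/-- The word of a letter. -/
def lw (l : ℕ) : List ℕ := letterWord.getD l []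

/-- The permutation of a letter. -/
def p5 (l : ℕ) : Equiv.Perm (Fin 240) := ev yP (lw l)

/-- The table of a letter, the identity outside the range. -/
def letFun (l : ℕ) (x : Fin 240) : Fin 240 := bif Nat.blt l 5 then tabFun (letTab.getD l 0) x else x

theorem p5_spec : ∀ l : Fin 5, ∀ x : Fin 240, p5 l x = letFun l x := by decide +kernel

theorem p5_apply (l : ℕ) (x : Fin 240) : p5 l x = letFun l x := by
  rcases Nat.lt_or_ge l 5 with h | h
  · exact p5_spec ⟨l, h⟩ x
  · have hb : Nat.blt l 5 = false := by rw [Bool.eq_false_iff]; simp [Nat.blt_eq]; omega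
    have hl : lw l = [] := List.getD_eq_default _ _ (by simpa [letterWord] using h)
    simp [p5, letFun, hb, hl, ev]

/-- The action of a word. -/
def run (u : List ℕ) (x : Fin 240) : Fin 240 := u.foldr (fun l y => letFun l y) x

theorem ev_p5_apply (u : List ℕ) (x : Fin 240) : ev p5 u x = run u x := by
  induction u with
  | nil => rfl
  | cons l u ih =>
    rw [ev_cons, Equiv.Perm.mul_apply, ih, p5_apply]
    rfl

/-- Two words act equally. -/
def eqOK (u v : List ℕ) : Bool :=
  (List.finRange 240).all fun x => Nat.beq (run u x).1 (run v x).1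

/-- Two words act differently. -/
def neOK (u v : List ℕ) : Bool :=
  (List.finRange 240).any fun x => !Nat.beq (run u x).1 (run v x).1

theorem eq_of_eqOK {u v : List ℕ} (h : eqOK u v = true) : ev p5 u = ev p5 v := by
  refine Equiv.ext fun x => ?_
  rw [ev_p5_apply, ev_p5_apply]
  exact Fin.ext (Nat.eq_of_beq_eq_true (List.all_eq_true.mp h x (List.mem_finRange x)))

theorem ne_of_neOK {u v : List ℕ} (h : neOK u v = true) : ev p5 u ≠ ev p5 v := by
  intro he
  obtain ⟨x, -, hx⟩ := List.any_eq_true.mp h
  rw [← ev_p5_apply, ← ev_p5_apply, he, Bool.not_eq_true'] at hx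
  rw [Nat.beq_refl] at hx
  exact absurd hx (by decide)

/-- Word identities transfer along an injective homomorphism. -/
theorem ev_eq_of_eqOK {C : Type*} [Group C] {φ : C →* Equiv.Perm (Fin 240)}
    (hφ : Function.Injective φ) {f : ℕ → C} (hf : ∀ l, φ (f l) = p5 l) {u v : List ℕ}
    (h : eqOK u v = true) : ev f u = ev f v := by
  refine hφ ?_
  have hm : ∀ w : List ℕ, φ (ev f w) = ev p5 w := fun w => by
    induction w with
    | nil => exact map_one φ
    | cons l w ih => rw [ev_cons, ev_cons, map_mul, ih, hf]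
  rw [hm, hm, eq_of_eqOK h]

/-- Word inequalities transfer along a homomorphism. -/
theorem ev_ne_of_neOK {C : Type*} [Group C] {φ : C →* Equiv.Perm (Fin 240)}
    {f : ℕ → C} (hf : ∀ l, φ (f l) = p5 l) {u v : List ℕ}
    (h : neOK u v = true) : ev f u ≠ ev f v := by
  intro he
  have hm : ∀ w : List ℕ, φ (ev f w) = ev p5 w := fun w => by
    induction w with
    | nil => exact map_one φ
    | cons l w ih => rw [ev_cons, ev_cons, map_mul, ih, hf]
  exact ne_of_neOK h (by rw [← hm, ← hm, he])

end Cfsg.Agent.McLType
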