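import Cfsg.Agent.Lib.McLType.Data
import Cfsg.Agent.Lib.CosetEnum.Order

/-!
# The presentation

* `Gen`, `extra`, `mclSetup`, `mclLetters`
-/

set_option autoImplicit false

namespace Cfsg.Agent.McLType

/-- The generators. -/
inductive Gen
  | a
  | b
  | d
  | g
  deriving DecidableEq

/-- A signed generator from a letter. -/
def gl (l : ℕ) : Gen × Bool :=
  match l with
  | 0 => (.a, true)
  | 1 => (.b, true)
  | 2 => (.b, false)
  | 3 => (.d, true)
  | 4 => (.d, false)
  | _ => (.g, true)

/-- The element of a free group of a word. -/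
def toFG (u : List ℕ) : FreeGroup Gen := FreeGroup.mk (u.map gl)

/-- The setup. -/
def mclSetup : CosetEnum.Setup Gen where
  edges := [(.a, 2, .g)]
  extra := finalWords.map toFG
  gens := [.a, .b, .d, .g]
  pos := [0, 1, 3, 5]
  lt := [(.a, true), (.b, true), (.b, false), (.d, true), (.d, false), (.g, true)]

theorem mclSetup_gens : ∀ x, x ∈ mclSetup.gens := by intro x; cases x <;> simp [mclSetup]

/-- The letters. -/
def mclLetters : CosetEnum.Data := CosetEnum.letterData 6 [0, 2, 1, 4, 3, 5]

end Cfsg.Agent.McLType
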