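import Cfsg.Agent.Lib.McLType.Fusion
import Cfsg.Agent.Lib.McLType.Pres

/-!
# The relators hold in a group of McL type

* `Setting.exists_gen` : a fifth letter satisfying the relators
* `homOfGen`
-/

set_option autoImplicit false
set_option linter.style.haveILetI false

namespace Cfsg.Agent.McLType

open Equiv

/-- Four letters. -/
def sel4 {α : Type*} (x y z w : α) (l : ℕ) : α :=
  bif Nat.beq l 0 then x else bif Nat.beq l 1 then y else bif Nat.beq l 2 then z else w

/-- The inverse letter. -/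
def linv (l : ℕ) : ℕ := [0, 2, 1, 4, 3, 5].getD l 5

/-- One step of the reduction. -/
def push (st : List ℕ) (l : ℕ) : List ℕ :=
  match st with
  | [] => [l]
  | x :: r => bif Nat.beq x (linv l) then r else l :: x :: r

/-- The reduced word. -/
def redw (u : List ℕ) : List ℕ := (u.foldl push []).reverse

/-- The word of a table position. -/
def tw1 (i : ℕ) : List ℕ := ((table1.getD i (0, [])).2).flatMap (sel [0] [1])

/-- The word of a position in the second table. -/
def tw2 (i : ℕ) : List ℕ := ((table2.getD i (0, [])).2).flatMap (sel wordC [3])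

/-- The code of a table position. -/
def tc1 (i : ℕ) : ℕ := (table1.getD i (0, [])).1

/-- The code of a position in the second table. -/
def tc2 (i : ℕ) : ℕ := (table2.getD i (0, [])).1

/-- The checks on the fusing involution. -/
def gOK : Bool :=
  Nat.beq (comp codeG codeG) cid && Nat.beq (comp codeH codeH) cid && Nat.beq (app codeG 1) 2 &&
  Nat.beq (app codeH 1) 2 &&
  Nat.beq (mkCode (nib codeH 0) (nib codeH 1) (nib codeH 2) (nib codeH 3)) codeH &&
  (List.range 4).all (fun j =>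
    let r := gRows.getD j (0, 0, 0)
    Nat.blt r.2.1 168 && Nat.blt r.2.2 168 &&
      Nat.beq (comp (comp codeG (tc1 r.2.1)) codeG) (tc1 r.2.2) &&
      eqOK (basis2.getD j []) (vecWord basis1 r.1 ++ tw1 r.2.1) &&
      eqOK (vecWord basis1 (app codeG r.1) ++ tw1 r.2.2) (vecWord basis2 (nib codeH j))) &&
  (match rRow with
    | (x, l, l', y, d, d') =>
      Nat.blt l 168 && Nat.blt l' 168 && Nat.blt d 168 && Nat.blt d' 168 &&
      Nat.beq (comp (comp codeG (tc1 l)) codeG) (tc1 l') &&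
      Nat.beq (comp (comp codeH (tc2 d)) codeH) (tc2 d') &&
      eqOK (vecWord basis1 x ++ tw1 l) (vecWord basis2 y ++ tw2 d) &&
      (List.range 16).all (fun v => !Nat.beq (app codeH v) v || Nat.beq v 0 || Nat.beq v 3 ||
        neOK (vecWord basis1 (app codeG x) ++ tw1 l')
          (vecWord basis2 (v ^^^ app codeH y ^^^ app (tc2 d') v) ++ tw2 d')))

/-- The words of the relators before reduction. -/
def rawWords : List (List ℕ) :=
  relsC ++ relsX1.map (fun u => u.flatMap (sel4 [0] [1] [2] [5])) ++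
    relsX2.map (fun u => u.flatMap (sel4 wordC [3] [4] [5])) ++
    (List.range 4).map (fun j => [5] ++ basis1.getD j [] ++ ([5] ++ img1.getD j [])) ++
    (List.range 4).map (fun j => [5] ++ basis2.getD j [] ++ ([5] ++ img2.getD j []))

/-- The checks on the relators. -/
def relOK : Bool :=
  relsC.all (fun u => u.all (fun l => Nat.blt l 5) && eqOK u []) &&
  relsX1.all (fun u => Nat.beq (cev (sel4 codeA1 codeB1 (comp codeB1 codeB1) codeG) u) cid) &&
  relsX2.all (fun u => Nat.beq (cev (sel4 codeA2 codeB2 (comp codeB2 codeB2) codeH) u) cid) &&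
  (List.range 4).all (fun j => eqOK (vecWord basis1 (app codeG (1 <<< j)) ++ img1.getD j []) [] &&
    eqOK (vecWord basis1 (1 <<< j)) (basis1.getD j [])) &&
  (List.range 4).all (fun j => eqOK (vecWord basis2 (app codeH (1 <<< j)) ++ img2.getD j []) [] &&
    eqOK (vecWord basis2 (1 <<< j)) (basis2.getD j [])) &&
  finalWords.all (fun q => rawWords.any fun r => redw r == q) &&
  eqOK [1, 2] [] && eqOK [3, 4] [] && eqOK [0, 0] [] && eqOK [1, 1] [2] && eqOK [3, 3] [4]

set_option maxHeartbeats 0 in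
theorem gOK_eq : gOK = true := by decide +kernel

set_option maxHeartbeats 0 in
theorem relOK_eq : relOK = true := by decide +kernel

theorem frames_OK :
    complOK codeA1 codeB1 = true ∧ complOK codeA2 codeB2 = true ∧
      badOK codeA1 codeB1 table1 reps1 codeG = true := by
  refine ⟨?_, ?_, ?_⟩ <;> decide +kernel

set_option maxHeartbeats 0 in
theorem reps_OK : repsOK table1 reps1 lookTab1 = true := by decide +kernel

section Reduce

variable {M : Type*} [Group M] (f : ℕ → M) (hf : ∀ l, f (linv l) * f l = 1)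

include hf in
theorem ev_push (st : List ℕ) (l : ℕ) :
    ev f (push st l).reverse = ev f st.reverse * f l := by
  unfold push
  cases st with
  | nil => simp [ev]
  | cons x r =>
    cases hx : Nat.beq x (linv l)
    · simp [hx, ev, mul_assoc]
    · have he := Nat.eq_of_beq_eq_true hx
      subst he
      simp [hx, ev, mul_assoc, hf l]

include hf in
theorem ev_redw (u : List ℕ) : ev f (redw u) = ev f u := by
  have h : ∀ (u st : List ℕ), ev f (u.foldl push st).reverse = ev f st.reverse * ev f u := by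
    intro u
    induction u with
    | nil => intro st; simp [ev]
    | cons l u ih => intro st; rw [List.foldl_cons, ih, ev_push f hf, ev_cons, mul_assoc]
  have := h u []
  simpa [redw, ev] using this

end Reduce

namespace Setting

variable {G : Type*} [Group G] (S : Setting G)

/-- The six letters. -/
def let6 (g : G) (l : ℕ) : G := bif Nat.blt l 5 then S.fG l else g

theorem ev_let6 (g : G) {u : List ℕ} (h : ∀ l ∈ u, l < 5) : ev (S.let6 g) u = ev S.fG u :=
  ev_congr u fun l hl => by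
    have : Nat.blt l 5 = true := by simpa [Nat.blt_eq] using h l hl
    simp [let6, this]

theorem ev_low (g : G) (u : List ℕ) (h : (u.all fun l => Nat.blt l 5) = true) :
    ev (S.let6 g) u = ev S.fG u :=
  S.ev_let6 g fun l hl => by simpa [Nat.blt_eq] using List.all_eq_true.mp h l hl

/-- The relators in the group. -/
theorem exists_gen [Finite G] (hw : IsConj S.t S.w) :
    ∃ g : G, g * g = 1 ∧ g * ev S.fG [0] = ev S.fG [0] * g ∧ g * S.t * g⁻¹ = S.w ∧
      ∀ q ∈ finalWords, ev (S.let6 g) q = 1 := by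
  classical
  set D := S.loc checked1 with hD
  set E := S.loc checked2 with hE
  have hgk := gOK_eq
  simp only [gOK, Bool.and_eq_true, List.all_eq_true, List.mem_range, Nat.blt_eq] at hgk
  obtain ⟨⟨⟨⟨⟨⟨hG2, hH2⟩, hG1⟩, hH1⟩, hHm⟩, hrows⟩, hwit⟩ := hgk
  replace hG2 := Nat.eq_of_beq_eq_true hG2
  replace hH2 := Nat.eq_of_beq_eq_true hH2
  replace hG1 := Nat.eq_of_beq_eq_true hG1
  replace hH1 := Nat.eq_of_beq_eq_true hH1
  replace hHm := Nat.eq_of_beq_eq_true hHm
  have hrk := relOK_eq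
  simp only [relOK, Bool.and_eq_true, List.all_eq_true, List.mem_range] at hrk
  obtain ⟨⟨⟨⟨⟨⟨⟨⟨⟨⟨hC, hX1⟩, hX2⟩, hA1⟩, hA2⟩, hfin⟩, hb2⟩, hd2⟩, ha2⟩, hbb⟩, hdd⟩ := hrk
  -- first complement
  have htr1 : ∀ y, y < 16 → y ≠ 0 → ∃ h ∈ Subgroup.normalizer (D.F.U : Set G),
      h * D.F.e 1 * h⁻¹ = D.F.e y := fun y hy hy0 => S.transitive hw checked1 hy hy0
  have htr2 : ∀ y, y < 16 → y ≠ 0 → ∃ h ∈ Subgroup.normalizer (E.F.U : Set G),
      h * E.F.e 1 * h⁻¹ = E.F.e y := fun y hy hy0 => S.transitive hw checked2 hy hy0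
  obtain ⟨K, hKN, hKU, hKcov, haK, hbK⟩ := D.exists_complement htr1 frames_OK.1
  obtain ⟨h0, hh0, hh0c⟩ := D.exists_code reps_OK frames_OK.2.2 (htr1 2 (by norm_num) (by norm_num))
  obtain ⟨v0, hv0, hgK⟩ := hKcov h0 hh0
  set g := D.F.e v0 * h0 with hg
  have hgN := hKN hgK
  have hgc : D.F.cd g = codeG := by rw [hg, D.cd_e_mul hv0 hh0, hh0c]
  clear_value g
  clear hg
  have keq : ∀ x y, x ∈ K → y ∈ K → D.F.cd x = D.F.cd y → x = y := by
    intro x y hx hy hxy
    have hm : x⁻¹ * y ∈ Subgroup.normalizer (D.F.U : Set G) := mul_mem (inv_mem (hKN hx)) (hKN hy)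
    have hc : D.F.cd (x⁻¹ * y) = cid := by
      rw [← D.F.cd_one, ← inv_mul_cancel x, D.F.cd_mul (inv_mem (hKN hx)) (hKN hy),
        D.F.cd_mul (inv_mem (hKN hx)) (hKN hx), hxy]
    have hU : x⁻¹ * y ∈ D.F.U := D.hCU ▸ D.F.mem_centralizer_of_cd hm hc
    have h1 : x⁻¹ * y ∈ K ⊓ D.F.U := Subgroup.mem_inf.mpr ⟨mul_mem (inv_mem hx) hy, hU⟩
    rw [hKU, Subgroup.mem_bot] at h1
    exact inv_mul_eq_one.mp h1
  have hgg : g * g = 1 := keq _ _ (mul_mem hgK hgK) (one_mem K) (by
    rw [D.F.cd_mul hgN hgN, hgc, hG2, D.F.cd_one])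
  have hginv : g⁻¹ = g := inv_eq_of_mul_eq_one_right hgg
  have hw1 : ∀ i, ev S.fG (tw1 i) = ev (sel D.a D.b) (table1.getD i (0, [])).2 := fun i =>
    (S.ev_sel _ [0] [1]).symm
  have hw2 : ∀ i, ev S.fG (tw2 i) = ev (sel E.a E.b) (table2.getD i (0, [])).2 := fun i =>
    (S.ev_sel _ wordC [3]).symm
  have hmem1 : ∀ i, i < 168 → table1.getD i (0, []) ∈ D.tbl := fun i hi => by
    have hlen : table1.length = 168 := checked1.len
    rw [List.getD_eq_getElem _ _ (by rw [hlen]; exact hi)]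
    exact List.getElem_mem _
  have hmem2 : ∀ i, i < 168 → table2.getD i (0, []) ∈ E.tbl := fun i hi => by
    have hlen : table2.length = 168 := checked2.len
    rw [List.getD_eq_getElem _ _ (by rw [hlen]; exact hi)]
    exact List.getElem_mem _
  have hswap : ∀ l l', l < 168 → l' < 168 → comp (comp codeG (tc1 l)) codeG = tc1 l' →
      ∀ x, g * (ev S.fG (vecWord basis1 x) * ev S.fG (tw1 l)) * g⁻¹ =
        ev S.fG (vecWord basis1 (app codeG x)) * ev S.fG (tw1 l') := by
    intro l l' hl hl' hc x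
    have hk : g * ev (sel D.a D.b) (table1.getD l (0, [])).2 * g =
        ev (sel D.a D.b) (table1.getD l' (0, [])).2 := by
      have hmemK : ∀ u, ev (sel D.a D.b) u ∈ K := fun u => ev_mem _ _ _ fun i _ => by
        unfold sel; cases Nat.beq i 0 <;> assumption
      refine keq _ _ (mul_mem (mul_mem hgK (hmemK _)) hgK) (hmemK _) ?_
      rw [D.F.cd_mul (mul_mem hgN (D.cd_word (hmem1 l hl)).1) hgN,
        D.F.cd_mul hgN (D.cd_word (hmem1 l hl)).1, hgc, (D.cd_word (hmem1 l hl)).2,
        (D.cd_word (hmem1 l' hl')).2]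
      exact hc
    have hx : g * ev S.fG (vecWord basis1 x) * g⁻¹ = ev S.fG (vecWord basis1 (app codeG x)) := by
      have := D.F.conj_eq hgN x
      rw [hgc] at this
      rw [show D.F.e x = ev S.fG (vecWord basis1 x) from S.basis_e checked1 x,
        show D.F.e (app codeG x) = ev S.fG (vecWord basis1 (app codeG x)) from S.basis_e checked1 _] at this
      exact this
    rw [← hx, hw1, hw1, ← hk]
    calc _ = g * ev S.fG (vecWord basis1 x) * g⁻¹ * (g * ev (sel D.a D.b) (table1.getD l (0, [])).2 * g⁻¹) := by group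
      _ = _ := by rw [hginv]
  -- the second normaliser
  have himg : ∀ j, j < 4 → g * ev S.fG (basis2.getD j []) * g⁻¹ = E.F.e (nib codeH j) := by
    intro j hj
    obtain ⟨⟨⟨⟨h1, h2⟩, h3⟩, h4⟩, h5⟩ := hrows j hj
    rw [S.eval_eq h4, ev_append, hswap _ _ h1 h2 (Nat.eq_of_beq_eq_true h3), ← ev_append, S.eval_eq h5]
    exact (S.basis_e checked2 _).symm
  obtain ⟨hgN2, hgc2⟩ := E.F.cd_of_images (nib_lt codeH 0) (nib_lt codeH 1) (nib_lt codeH 2)
    (nib_lt codeH 3) (himg 0 (by norm_num)) (himg 1 (by norm_num)) (himg 2 (by norm_num)) (himg 3 (by norm_num))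
  rw [hHm] at hgc2
  obtain ⟨K2, hK2N, hK2U, hK2cov, hcK, hdK⟩ := E.exists_complement htr2 frames_OK.2.1
  obtain ⟨v, hv, hkK⟩ := hK2cov g hgN2
  set k := E.F.e v * g with hk
  have hkN := hK2N hkK
  have hkc : E.F.cd k = codeH := by rw [hk, E.cd_e_mul hv hgN2, hgc2]
  have keq2 : ∀ x y, x ∈ K2 → y ∈ K2 → E.F.cd x = E.F.cd y → x = y := by
    intro x y hx hy hxy
    have hm : x⁻¹ * y ∈ Subgroup.normalizer (E.F.U : Set G) := mul_mem (inv_mem (hK2N hx)) (hK2N hy)
    have hc : E.F.cd (x⁻¹ * y) = cid := by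
      rw [← E.F.cd_one, ← inv_mul_cancel x, E.F.cd_mul (inv_mem (hK2N hx)) (hK2N hy),
        E.F.cd_mul (inv_mem (hK2N hx)) (hK2N hx), hxy]
    have hU : x⁻¹ * y ∈ E.F.U := E.hCU ▸ E.F.mem_centralizer_of_cd hm hc
    have h1 : x⁻¹ * y ∈ K2 ⊓ E.F.U := Subgroup.mem_inf.mpr ⟨mul_mem (inv_mem hx) hy, hU⟩
    rw [hK2U, Subgroup.mem_bot] at h1
    exact inv_mul_eq_one.mp h1
  have hkk : k * k = 1 := keq2 _ _ (mul_mem hkK hkK) (one_mem K2) (by
    rw [E.F.cd_mul hkN hkN, hkc, hH2, E.F.cd_one])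
  have hkinv : k⁻¹ = k := inv_eq_of_mul_eq_one_right hkk
  have hkconj : ∀ y, k * E.F.e y * k⁻¹ = E.F.e (app codeH y) := fun y => by rw [E.F.conj_eq hkN, hkc]
  have hgv : g = E.F.e v * k := by rw [hk, ← mul_assoc, E.F.e_self, one_mul]
  have hfix : app codeH v = v := by
    have h1 : E.F.e (v ^^^ app codeH v) = 1 := by
      rw [E.F.e_xor, ← hkconj, hkinv]
      calc E.F.e v * (k * E.F.e v * k) = E.F.e v * k * (E.F.e v * k) := by group
        _ = 1 := by rw [← hgv, hgg]
    exact (Nat.xor_eq_zero_iff.mp ((E.F.e_eq_one (Nat.xor_lt_two_pow (n := 4) hv (app_lt _ _))).mp h1)).symm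
  have hv03 : v = 0 ∨ v = 3 := by
    revert hwit
    rcases rRow with ⟨x, l, l', y, d, d'⟩
    intro hwit
    simp only [Bool.and_eq_true, List.all_eq_true, List.mem_range, Nat.blt_eq] at hwit
    obtain ⟨⟨⟨⟨⟨⟨⟨hl, hl'⟩, hd⟩, hd'⟩, hc1⟩, hc2⟩, heq⟩, hne⟩ := hwit
    by_contra hcon
    push Not at hcon
    have hb := hne v hv
    simp only [Bool.or_eq_true, Bool.not_eq_true'] at hb
    rcases hb with ((hb | hb) | hb) | hb
    · rw [hfix, Nat.beq_refl] at hb; exact absurd hb (by decide)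
    · exact hcon.1 (Nat.eq_of_beq_eq_true hb)
    · exact hcon.2 (Nat.eq_of_beq_eq_true hb)
    refine S.eval_ne hb ?_
    rw [ev_append, ← hswap l l' hl hl' (Nat.eq_of_beq_eq_true hc1) x, ← ev_append, S.eval_eq heq,
      ev_append, ev_append, hw2, hw2,
      show ev S.fG (vecWord basis2 y) = E.F.e y from (S.basis_e checked2 y).symm,
      show ev S.fG (vecWord basis2 (v ^^^ app codeH y ^^^ app (tc2 d') v)) =
        E.F.e (v ^^^ app codeH y ^^^ app (tc2 d') v) from (S.basis_e checked2 _).symm]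
    have hmemK : ∀ u, ev (sel E.a E.b) u ∈ K2 := fun u => ev_mem _ _ _ fun i _ => by
      unfold sel; cases Nat.beq i 0 <;> assumption
    have hkw : k * ev (sel E.a E.b) (table2.getD d (0, [])).2 * k =
        ev (sel E.a E.b) (table2.getD d' (0, [])).2 := by
      refine keq2 _ _ (mul_mem (mul_mem hkK (hmemK _)) hkK) (hmemK _) ?_
      rw [E.F.cd_mul (mul_mem hkN (E.cd_word (hmem2 d hd)).1) hkN,
        E.F.cd_mul hkN (E.cd_word (hmem2 d hd)).1, hkc, (E.cd_word (hmem2 d hd)).2,
        (E.cd_word (hmem2 d' hd')).2]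
      exact Nat.eq_of_beq_eq_true hc2
    set W := ev (sel E.a E.b) (table2.getD d (0, [])).2
    set W' := ev (sel E.a E.b) (table2.getD d' (0, [])).2
    have hW' : W' * E.F.e v * W'⁻¹ = E.F.e (app (tc2 d') v) := by
      rw [E.F.conj_eq (E.cd_word (hmem2 d' hd')).1, (E.cd_word (hmem2 d' hd')).2]
      rfl
    rw [E.F.e_xor, E.F.e_xor, ← hkconj, ← hW', hgv, mul_inv_rev, E.F.e_inv]
    calc E.F.e v * k * (E.F.e y * W) * (k⁻¹ * E.F.e v)
        = E.F.e v * (k * E.F.e y * k⁻¹) * (k * W * k⁻¹) * E.F.e v := by group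
      _ = E.F.e v * (k * E.F.e y * k⁻¹) * W' * E.F.e v := by
          rw [show k * W * k⁻¹ = k * W * k by rw [hkinv], hkw]
      _ = _ := by group
  -- the letters
  have ha1 : ev S.fG [0] = D.a := rfl
  refine ⟨g, hgg, ?_, ?_, ?_⟩
  · have h1 : D.F.cd (g * D.a) = D.F.cd (D.a * g) := by
      rw [D.F.cd_mul hgN D.haN, D.F.cd_mul D.haN hgN, hgc, D.hca]
      show comp codeG codeA1 = comp codeA1 codeG
      decide +kernel
    exact keq _ _ (mul_mem hgK haK) (mul_mem haK hgK) h1
  · have := D.F.conj_eq hgN 1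
    rw [hgc, hG1, show D.F.e 1 = S.t from S.basis_one checked1,
      show D.F.e 2 = S.w from S.basis_two checked1] at this
    exact this
  intro q hq
  obtain ⟨r, hr, hrq⟩ := List.any_eq_true.mp (hfin q hq)
  have hinv : ∀ l, S.let6 g (linv l) * S.let6 g l = 1 := by
    have h5 : ∀ a b, eqOK [a, b] [] = true → S.fG a * S.fG b = 1 := fun a b h => by
      have := S.eval_eq h; simpa [ev] using this
    have h12 := h5 1 2 hb2
    have h34 := h5 3 4 hd2
    have h00 := h5 0 0 ha2
    intro l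
    match l with
    | 0 => exact h00
    | 1 => exact mul_eq_one_comm.mp h12
    | 2 => exact h12
    | 3 => exact mul_eq_one_comm.mp h34
    | 4 => exact h34
    | 5 => exact hgg
    | (n + 6) =>
      have h1 : Nat.blt (n + 6) 5 = false := by rw [Bool.eq_false_iff]; simp [Nat.blt_eq]
      show S.let6 g 5 * S.let6 g (n + 6) = 1
      simp only [let6, h1]
      exact hgg
  rw [← beq_iff_eq.mp hrq, ev_redw _ hinv]
  -- the five kinds of relators
  have hlet : ∀ u : List ℕ, (∀ l ∈ u, l < 5) → ev (S.let6 g) u = ev S.fG u := fun u h => S.ev_let6 g h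
  have hB : ∀ j, j < 4 → (∀ l ∈ basis1.getD j [], l < 5) ∧ (∀ l ∈ img1.getD j [], l < 5) ∧
      (∀ l ∈ basis2.getD j [], l < 5) ∧ (∀ l ∈ img2.getD j [], l < 5) := by
    intro j hj
    interval_cases j <;> decide
  simp only [rawWords, List.mem_append, List.mem_map, List.mem_range] at hr
  rcases hr with (((hr | ⟨u, hu, rfl⟩) | ⟨u, hu, rfl⟩) | ⟨j, hj, rfl⟩) | ⟨j, hj, rfl⟩
  · obtain ⟨h1, h2⟩ := hC r hr
    rw [hlet r fun l hl => by simpa [Nat.blt_eq] using h1 l hl, S.eval_eq h2, ev_nil]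
  · rw [ev_flatMap]
    have hfl : ∀ l, ev (S.let6 g) (sel4 [0] [1] [2] [5] l) = sel4 D.a D.b (D.b * D.b) g l := by
      intro l
      unfold sel4
      cases Nat.beq l 0 <;> cases Nat.beq l 1 <;> cases Nat.beq l 2 <;>
        first
        | rfl
        | exact (show g * 1 = g from mul_one g)
        | exact (S.eval_eq hbb).symm.trans (ev_append S.fG [1] [1])
    rw [ev_congr u fun l _ => hfl l]
    have hK : ∀ l, sel4 D.a D.b (D.b * D.b) g l ∈ K := fun l => by
      unfold sel4; cases Nat.beq l 0 <;> cases Nat.beq l 1 <;> cases Nat.beq l 2 <;>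
        first | exact haK | exact hbK | exact mul_mem hbK hbK | exact hgK
    refine keq _ _ (ev_mem K _ u fun l _ => hK l) (one_mem K) ?_
    rw [D.F.cd_one, cd_ev D.F _ (sel4 codeA1 codeB1 (comp codeB1 codeB1) codeG) u
      (fun l _ => hKN (hK l)) fun l _ => ?_, Nat.eq_of_beq_eq_true (hX1 u hu)]
    unfold sel4
    have hca : D.F.cd D.a = codeA1 := D.hca
    have hcb : D.F.cd D.b = codeB1 := D.hcb
    have hcbb : D.F.cd (D.b * D.b) = comp codeB1 codeB1 := by rw [D.F.cd_mul D.hbN D.hbN, hcb]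
    cases Nat.beq l 0 <;> cases Nat.beq l 1 <;> cases Nat.beq l 2 <;>
      simp only [cond_true, cond_false, hca, hcb, hgc, hcbb]
  · rw [ev_flatMap]
    have hfl : ∀ l, ev (S.let6 g) (sel4 wordC [3] [4] [5] l) = sel4 E.a E.b (E.b * E.b) g l := by
      intro l
      unfold sel4
      cases Nat.beq l 0 <;> cases Nat.beq l 1 <;> cases Nat.beq l 2 <;>
        first
        | exact hlet wordC (by decide)
        | rfl
        | exact (show g * 1 = g from mul_one g)
        | exact (S.eval_eq hdd).symm.trans (ev_append S.fG [3] [3])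
    rw [ev_congr u fun l _ => hfl l]
    -- replace `g` by the element of the complement
    have hK : ∀ l, sel4 E.a E.b (E.b * E.b) k l ∈ K2 := fun l => by
      unfold sel4; cases Nat.beq l 0 <;> cases Nat.beq l 1 <;> cases Nat.beq l 2 <;>
        first | exact hcK | exact hdK | exact mul_mem hdK hdK | exact hkK
    have h1 : ev (sel4 E.a E.b (E.b * E.b) k) u = 1 := by
      refine keq2 _ _ (ev_mem K2 _ u fun l _ => hK l) (one_mem K2) ?_
      rw [E.F.cd_one, cd_ev E.F _ (sel4 codeA2 codeB2 (comp codeB2 codeB2) codeH) u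
        (fun l _ => hK2N (hK l)) fun l _ => ?_, Nat.eq_of_beq_eq_true (hX2 u hu)]
      unfold sel4
      have hca : E.F.cd E.a = codeA2 := E.hca
      have hcb : E.F.cd E.b = codeB2 := E.hcb
      have hcbb : E.F.cd (E.b * E.b) = comp codeB2 codeB2 := by rw [E.F.cd_mul E.hbN E.hbN, hcb]
      cases Nat.beq l 0 <;> cases Nat.beq l 1 <;> cases Nat.beq l 2 <;>
        simp only [cond_true, cond_false, hca, hcb, hkc, hcbb]
    rcases hv03 with h0 | h3
    · have hkg : k = g := by rw [hk, h0, E.F.e_zero, one_mul]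
      rwa [hkg] at h1
    · set φ := (MulAut.conj (E.F.e 1)).toMonoidHom with hφ
      have hat : E.F.e 1 * E.a * (E.F.e 1)⁻¹ = E.a :=
        (show Commute E.a (E.F.e 1) from mul_inv_eq_iff_eq_mul.mp E.hat).symm.mul_inv_cancel
      have hbt : E.F.e 1 * E.b * (E.F.e 1)⁻¹ = E.b :=
        (show Commute E.b (E.F.e 1) from mul_inv_eq_iff_eq_mul.mp E.hbt).symm.mul_inv_cancel
      have hkg : E.F.e 1 * k * (E.F.e 1)⁻¹ = g := by
        rw [show E.F.e 1 * k * (E.F.e 1)⁻¹ = E.F.e 1 * (k * (E.F.e 1)⁻¹ * k⁻¹) * k by group,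
          E.F.e_inv, hkconj, hH1, ← E.F.e_xor, show (1 : ℕ) ^^^ 2 = 3 from rfl, ← h3, hgv]
      have h2 := congrArg φ h1
      rw [map_one, ev_map] at h2
      rw [← h2]
      refine ev_congr u fun l _ => ?_
      show _ = E.F.e 1 * sel4 E.a E.b (E.b * E.b) k l * (E.F.e 1)⁻¹
      unfold sel4
      cases Nat.beq l 0 <;> cases Nat.beq l 1 <;> cases Nat.beq l 2 <;>
        first
        | exact hat.symm
        | exact hbt.symm
        | exact hkg.symm
        | exact (show φ (E.b * E.b) = E.b * E.b by rw [map_mul, show φ E.b = E.b from hbt]).symm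
  · obtain ⟨hj1, hj2⟩ := hA1 j hj
    obtain ⟨hl1, hl2, -, -⟩ := hB j hj
    rw [ev_append, ev_append, ev_append, hlet _ hl1, hlet _ hl2]
    show g * 1 * ev S.fG (basis1.getD j []) * (g * 1 * ev S.fG (img1.getD j [])) = 1
    rw [mul_one, ← S.eval_eq hj2, ← mul_assoc]
    have := D.F.conj_eq hgN (1 <<< j)
    rw [hgc, hginv, show D.F.e (1 <<< j) = ev S.fG (vecWord basis1 (1 <<< j)) from S.basis_e checked1 _,
      show D.F.e (app codeG (1 <<< j)) = ev S.fG (vecWord basis1 (app codeG (1 <<< j))) from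
        S.basis_e checked1 _] at this
    rw [this, ← ev_append, S.eval_eq hj1, ev_nil]
  · obtain ⟨hj1, hj2⟩ := hA2 j hj
    obtain ⟨-, -, hl1, hl2⟩ := hB j hj
    rw [ev_append, ev_append, ev_append, hlet _ hl1, hlet _ hl2]
    show g * 1 * ev S.fG (basis2.getD j []) * (g * 1 * ev S.fG (img2.getD j [])) = 1
    rw [mul_one, ← S.eval_eq hj2, ← mul_assoc]
    have := E.F.conj_eq hgN2 (1 <<< j)
    rw [hgc2, hginv, show E.F.e (1 <<< j) = ev S.fG (vecWord basis2 (1 <<< j)) from S.basis_e checked2 _,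
      show E.F.e (app codeH (1 <<< j)) = ev S.fG (vecWord basis2 (app codeH (1 <<< j))) from
        S.basis_e checked2 _] at this
    rw [this, ← ev_append, S.eval_eq hj1, ev_nil]

/-- The value of a generator. -/
def genVal (g : G) : Gen → G
  | .a => S.fG 0
  | .b => S.fG 1
  | .d => S.fG 3
  | .g => g

theorem lift_toFG (g : G) (h12 : eqOK [1, 2] [] = true) (h34 : eqOK [3, 4] [] = true) (u : List ℕ) :
    FreeGroup.lift (S.genVal g) (toFG u) = ev (S.let6 g) u := by
  have hinv : ∀ a b, eqOK [a, b] [] = true → S.fG b = (S.fG a)⁻¹ := fun a b h => by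
    refine eq_inv_of_mul_eq_one_right ?_
    simpa [ev] using S.eval_eq h
  have h2 := hinv 1 2 h12
  have h4 := hinv 3 4 h34
  rw [toFG, FreeGroup.lift_mk, List.map_map, ev]
  refine congrArg List.prod (List.map_congr_left fun l _ => ?_)
  match l with
  | 0 => rfl
  | 1 => rfl
  | 2 => exact h2.symm
  | 3 => rfl
  | 4 => exact h4.symm
  | 5 => rfl
  | (n + 6) =>
    have hb : Nat.blt (n + 6) 5 = false := by rw [Bool.eq_false_iff]; simp [Nat.blt_eq]
    show g = S.let6 g (n + 6)
    simp [let6, hb]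

/-- The homomorphism from the presented group. -/
theorem exists_hom (g : G) (hgg : g * g = 1) (hag : g * ev S.fG [0] = ev S.fG [0] * g)
    (hrel : ∀ q ∈ finalWords, ev (S.let6 g) q = 1) :
    ∃ ψ : mclSetup.G →* G, ψ.range = Subgroup.closure {S.fG 0, S.fG 1, S.fG 3, g} := by
  have hrk := relOK_eq
  simp only [relOK, Bool.and_eq_true] at hrk
  have haa : S.fG 0 * S.fG 0 = 1 := by simpa [ev] using S.eval_eq hrk.1.1.2
  have hag' : g * S.fG 0 = S.fG 0 * g := by simpa [ev] using hag
  have hl : ∀ r ∈ mclSetup.rels, FreeGroup.lift (S.genVal g) r = 1 := by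
    rintro r (⟨x, hx, y, hy, rfl⟩ | hr)
    · simp only [mclSetup, Cfsg.Spor.coxNodes, List.map_cons, List.map_nil, List.cons_append, List.nil_append,
        List.mem_cons, List.not_mem_nil, or_false] at hx hy
      rcases hx with rfl | rfl <;> rcases hy with rfl | rfl <;>
        simp [mclSetup, Cfsg.Spor.coxLabel, map_pow, map_mul, genVal, haa, hgg, pow_two]
      · rw [mul_assoc, ← mul_assoc g, hag', mul_assoc, hgg, mul_one, haa]
      · rw [mul_assoc, ← mul_assoc (S.fG 0), ← hag', mul_assoc, haa, mul_one, hgg]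
    · obtain ⟨u, hu, rfl⟩ := List.mem_map.mp hr
      rw [S.lift_toFG g hrk.1.1.1.1.2 hrk.1.1.1.2]
      exact hrel u hu
  refine ⟨PresentedGroup.toGroup hl, ?_⟩
  refine le_antisymm ?_ ((Subgroup.closure_le _).mpr ?_)
  · rw [MonoidHom.range_eq_map, ← PresentedGroup.closure_range_of, MonoidHom.map_closure, Subgroup.closure_le]
    rintro _ ⟨_, ⟨x, rfl⟩, rfl⟩
    rw [PresentedGroup.toGroup.of]
    exact Subgroup.subset_closure (by cases x <;> simp [genVal])
  · rintro _ (rfl | rfl | rfl | rfl)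
    · exact ⟨PresentedGroup.of .a, PresentedGroup.toGroup.of hl⟩
    · exact ⟨PresentedGroup.of .b, PresentedGroup.toGroup.of hl⟩
    · exact ⟨PresentedGroup.of .d, PresentedGroup.toGroup.of hl⟩
    · exact ⟨PresentedGroup.of .g, PresentedGroup.toGroup.of hl⟩

end Setting

end Cfsg.Agent.McLType
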