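import Cfsg.Agent.Lib.McLType.Cover
import Cfsg.Agent.Lib.McLType.Frame
import Cfsg.Agent.Lib.McLType.Data
import Cfsg.Prelude.Def_SporadicB

/-!
# The centraliser of the involution and its two elementary subgroups of order 16

* `Setting`, `exists_setting`
* `Setting.eval_eq`, `Setting.eval_ne`
* `Setting.inv_cases`, `Setting.basisLoc`
-/

set_option autoImplicit false
set_option linter.style.haveILetI false

namespace Cfsg.Agent.McLType

open Equiv

theorem ev_congr {G : Type*} [Group G] {f g : ℕ → G} (u : List ℕ) (h : ∀ l ∈ u, f l = g l) :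
    ev f u = ev g u := by
  rw [ev, ev, List.map_congr_left h]

theorem ev_map {G H : Type*} [Group G] [Group H] (φ : G →* H) (f : ℕ → G) (u : List ℕ) :
    φ (ev f u) = ev (fun l => φ (f l)) u := by
  rw [ev, ev, map_list_prod, List.map_map]
  rfl

/-- The word of a vector. -/
def vecWord (B : List (List ℕ)) (v : ℕ) : List ℕ :=
  (bif Nat.testBit v 0 then B.getD 0 [] else []) ++ (bif Nat.testBit v 1 then B.getD 1 [] else []) ++
    (bif Nat.testBit v 2 then B.getD 2 [] else []) ++ (bif Nat.testBit v 3 then B.getD 3 [] else [])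

/-- The word of the involution. -/
def tWord : List ℕ := basis1.getD 0 []

/-- The word of the second involution. -/
def wWord : List ℕ := basis1.getD 1 []

/-- The centraliser of an involution with a faithful action on 240 points. -/
structure Setting (G : Type*) [Group G] where
  t : G
  ht : orderOf t = 2
  φ : ↥(Subgroup.centralizer ({t} : Set G)) →* Perm (Fin 240)
  f : ℕ → ↥(Subgroup.centralizer ({t} : Set G))
  π : ↥(Subgroup.centralizer ({t} : Set G)) →* Perm (Fin 8)
  hrange : π.range = alternatingGroup (Fin 8)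
  hker : ∀ x, π x = 1 ↔ (x : G) = 1 ∨ (x : G) = t
  hφ : Function.Injective φ
  hf : ∀ l, φ (f l) = p5 l
  hπ : ∀ l, π (f l) = pi5 l
  hgen : Subgroup.closure {f 0, f 1, f 3} = ⊤
  hcardC : Nat.card ↥(Subgroup.centralizer ({t} : Set G)) = 40320

theorem exists_setting {G : Type*} [Group G] [Finite G] (t : G) (ht : orderOf t = 2)
    (hcov : Cfsg.IsNonsplitDoubleCover (Subgroup.centralizer ({t} : Set G)) (alternatingGroup (Fin 8))) :
    ∃ S : Setting G, S.t = t := by
  classical
  obtain ⟨hZ, ⟨e⟩, hns⟩ := hcov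
  set C := Subgroup.centralizer ({t} : Set G)
  have htC : t ∈ C := Subgroup.mem_centralizer_singleton_iff.mpr rfl
  have htt : t * t = 1 := by rw [← pow_two, ← ht, pow_orderOf_eq_one]
  have ht1 : t ≠ 1 := fun h => by rw [h, orderOf_one] at ht; exact absurd ht (by decide)
  have hcen : ∀ x : C, Commute (⟨t, htC⟩ : C) x := fun x =>
    Subtype.ext (Subgroup.mem_centralizer_singleton_iff.mp x.2).symm
  let tz : Subgroup.center C := ⟨⟨t, htC⟩, Subgroup.mem_center_iff.mpr fun x => (hcen x).eq.symm⟩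
  let π : C →* Perm (Fin 8) :=
    (alternatingGroup (Fin 8)).subtype.comp (e.toMonoidHom.comp (QuotientGroup.mk' (Subgroup.center C)))
  have hker : ∀ x : C, π x = 1 ↔ x ∈ Subgroup.center C := fun x => by
    constructor
    · intro h
      have : e (QuotientGroup.mk x) = 1 := Subtype.ext h
      exact (QuotientGroup.eq_one_iff x).mp (e.map_eq_one_iff.mp this)
    · intro h
      show ((e (QuotientGroup.mk x) : alternatingGroup (Fin 8)) : Perm (Fin 8)) = 1
      rw [(QuotientGroup.eq_one_iff x).mpr h, map_one]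
      rfl
  have hmem : ∀ x : C, π x = 1 ↔ x = 1 ∨ x = ⟨t, htC⟩ := fun x => by
    rw [hker]
    constructor
    · intro hx
      obtain ⟨a, b, hab, huniv⟩ := Nat.card_eq_two_iff.mp hZ
      have hall : ∀ z : Subgroup.center C, z = 1 ∨ z = tz := by
        have hone : (1 : Subgroup.center C) ≠ tz := fun h =>
          ht1 (congrArg (fun z : Subgroup.center C => ((z : C) : G)) h).symm
        intro z
        have h1 : (1 : Subgroup.center C) ∈ ({a, b} : Set _) := huniv ▸ Set.mem_univ _
        have h2 : tz ∈ ({a, b} : Set _) := huniv ▸ Set.mem_univ _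
        have h3 : z ∈ ({a, b} : Set _) := huniv ▸ Set.mem_univ _
        simp only [Set.mem_insert_iff, Set.mem_singleton_iff] at h1 h2 h3
        rcases h1 with h1 | h1 <;> rcases h2 with h2 | h2 <;> rcases h3 with h3 | h3
        all_goals (subst h3; simp_all)
      rcases hall ⟨x, hx⟩ with h | h
      · exact Or.inl (congrArg Subtype.val h)
      · exact Or.inr (congrArg Subtype.val h)
    · rintro (rfl | rfl)
      · exact one_mem _
      · exact tz.2
  have hrange : π.range = alternatingGroup (Fin 8) := by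
    refine le_antisymm ?_ fun q hq => ?_
    · rintro _ ⟨x, rfl⟩; exact SetLike.coe_mem _
    · obtain ⟨x, hx⟩ := QuotientGroup.mk_surjective (e.symm ⟨q, hq⟩)
      refine ⟨x, ?_⟩
      show ((e (QuotientGroup.mk x) : alternatingGroup (Fin 8)) : Perm (Fin 8)) = q
      rw [hx, e.apply_symm_apply]
  have hkereq : π.ker = Subgroup.center C := Subgroup.ext fun x => MonoidHom.mem_ker.trans (hker x)
  let K : Cov C := ⟨π, ⟨t, htC⟩, hrange, hmem, Subtype.ext htt,
    fun h => ht1 (congrArg Subtype.val h), hcen, fun L hL => hns L (hkereq ▸ hL)⟩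
  obtain ⟨φ, f, h1, h2, h3, h4⟩ := K.exists_model
  refine ⟨⟨t, ht, φ, f, π, hrange, fun x => ?_, h1, h2, h3, h4, K.card_C⟩, rfl⟩
  rw [hmem, Subtype.ext_iff, Subtype.ext_iff]
  rfl

namespace Setting

variable {G : Type*} [Group G] (S : Setting G)

/-- The centraliser. -/
abbrev C : Subgroup G := Subgroup.centralizer ({S.t} : Set G)

/-- The letters in the group. -/
def fG (l : ℕ) : G := (S.f l : G)

theorem ev_fG (u : List ℕ) : ev S.fG u = ((ev S.f u : S.C) : G) := (ev_map S.C.subtype S.f u).symm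

theorem eval_eq {u v : List ℕ} (h : eqOK u v = true) : ev S.fG u = ev S.fG v := by
  rw [S.ev_fG, S.ev_fG, ev_eq_of_eqOK S.hφ S.hf h]

theorem eval_ne {u v : List ℕ} (h : neOK u v = true) : ev S.fG u ≠ ev S.fG v := by
  rw [S.ev_fG, S.ev_fG]
  exact fun he => ev_ne_of_neOK S.hf h (Subtype.ext he)

theorem evG_mem (u : List ℕ) : ev S.fG u ∈ S.C := by
  rw [S.ev_fG]; exact SetLike.coe_mem _

theorem pi_ev (u : List ℕ) : S.π (ev S.f u) = ev pi5 u := by
  rw [ev_map]; exact ev_congr u fun l _ => S.hπ l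

theorem t_eq : ev S.fG tWord = S.t := by
  have h1 : S.π (ev S.f tWord) = 1 := by rw [S.pi_ev]; decide +kernel
  rcases (S.hker _).mp h1 with h | h
  · exact absurd ((S.ev_fG tWord).trans h)
      (S.eval_ne (u := tWord) (v := []) (by decide +kernel))
  · rw [S.ev_fG, h]

theorem t_mem : S.t ∈ S.C := Subgroup.mem_centralizer_singleton_iff.mpr rfl

theorem t_comm {x : G} (hx : x ∈ S.C) : x * S.t = S.t * x := Subgroup.mem_centralizer_singleton_iff.mp hx

/-- The second involution. -/
def w : G := ev S.fG wWord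

theorem w_facts : ev pi5 wWord * ev pi5 wWord = 1 ∧ ∀ x, ev pi5 wWord x ≠ x := by decide +kernel

theorem p22_word : ev pi5 (genWord.getD 1 []) = p22 ∧ Perm.sign (ev pi5 wWord) = 1 := by decide +kernel

theorem exists_pre {q : Perm (Fin 8)} (hq : Perm.sign q = 1) : ∃ x, S.π x = q := by
  have : q ∈ S.π.range := by rw [S.hrange, Perm.mem_alternatingGroup]; exact hq
  exact this

theorem sign_map (x : ↥(Subgroup.centralizer ({S.t} : Set G))) : Perm.sign (S.π x) = 1 := by
  have : S.π x ∈ alternatingGroup (Fin 8) := S.hrange ▸ ⟨x, rfl⟩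
  exact Perm.mem_alternatingGroup.mp this

theorem eq_of_map {x y : ↥(Subgroup.centralizer ({S.t} : Set G))} (h : S.π x = S.π y) :
    (x : G) = y ∨ (x : G) = y * S.t := by
  have : S.π (y⁻¹ * x) = 1 := by rw [map_mul, map_inv, h, inv_mul_cancel]
  rcases (S.hker _).mp this with h1 | h1
  · exact Or.inl (inv_mul_eq_one.mp h1).symm
  · refine Or.inr ?_
    have hm := congrArg (fun g : G => (y : G) * g) h1
    push_cast at hm
    rwa [mul_inv_cancel_left] at hm

/-- An involution with a fixed point in the image lifts to an element of order four. -/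
theorem fpf {x : G} (hx : x ∈ S.C) (hsq : x * x = 1) (h1 : x ≠ 1) (h2 : x ≠ S.t) :
    ∀ y, S.π ⟨x, hx⟩ y ≠ y := by
  have hq1 : S.π ⟨x, hx⟩ * S.π ⟨x, hx⟩ = 1 := by
    rw [← map_mul, show (⟨x, hx⟩ : S.C) * ⟨x, hx⟩ = 1 from Subtype.ext hsq, map_one]
  have hq2 : S.π ⟨x, hx⟩ ≠ 1 := fun h => ((S.hker _).mp h).elim h1 h2
  intro y hy
  obtain ⟨σ, hσ, hσe⟩ := conj_p22 hq1 hq2 (S.sign_map _) ⟨y, hy⟩
  obtain ⟨s, hs⟩ := S.exists_pre hσ
  set u := ev S.f (genWord.getD 1 []) with hu
  have hπ : S.π ⟨x, hx⟩ = S.π (s * u * s⁻¹) := by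
    rw [map_mul, map_mul, map_inv, hs, hu, S.pi_ev, p22_word.1, hσe]
  have huu : (u : G) * u = S.t := by
    rw [hu, ← S.ev_fG, ← ev_append, ← S.t_eq]
    exact S.eval_eq (by decide +kernel)
  have hsu : ((s : G) * u * (s : G)⁻¹) * ((s : G) * u * (s : G)⁻¹) = S.t := by
    rw [show ((s : G) * u * (s : G)⁻¹) * ((s : G) * u * (s : G)⁻¹) = (s : G) * (u * u) * (s : G)⁻¹ by
      group, huu, S.t_comm s.2, mul_inv_cancel_right]
  have ht1 : S.t ≠ 1 := fun h => by have := S.ht; rw [h, orderOf_one] at this; exact absurd this (by decide)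
  rcases S.eq_of_map hπ with h | h <;> push_cast at h
  · rw [show x = (s : G) * u * (s : G)⁻¹ from h, hsu] at hsq
    exact ht1 hsq
  · have hc : Commute ((s : G) * u * (s : G)⁻¹) S.t :=
      S.t_comm (mul_mem (mul_mem s.2 u.2) (inv_mem s.2))
    rw [show x = (s : G) * u * (s : G)⁻¹ * S.t from h, hc.symm.mul_mul_mul_comm, hsu,
      ← mul_assoc] at hsq
    have htt : S.t * S.t = 1 := by rw [← pow_two, ← S.ht, pow_orderOf_eq_one]
    rw [htt, one_mul] at hsq
    exact ht1 hsq

/-- The involutions of the centraliser other than the central one form one class. -/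
theorem inv_cases {x : G} (hx : x ∈ S.C) (hsq : x * x = 1) (h1 : x ≠ 1) (h2 : x ≠ S.t) :
    ∃ c ∈ S.C, c * S.w * c⁻¹ = x := by
  have hq1 : S.π ⟨x, hx⟩ * S.π ⟨x, hx⟩ = 1 := by
    rw [← map_mul, show (⟨x, hx⟩ : S.C) * ⟨x, hx⟩ = 1 from Subtype.ext hsq, map_one]
  obtain ⟨σ, hσ, hσe⟩ := conj_p2222 hq1 (S.sign_map _) (S.fpf hx hsq h1 h2)
  obtain ⟨ρ, hρ, hρe⟩ := conj_p2222 w_facts.1 p22_word.2 w_facts.2
  obtain ⟨s, hs⟩ := S.exists_pre (show Perm.sign (σ * ρ⁻¹) = 1 by rw [map_mul, map_inv, hσ, hρ]; rfl)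
  have hπ : S.π ⟨x, hx⟩ = S.π (s * ev S.f wWord * s⁻¹) := by
    rw [map_mul, map_mul, map_inv, hs, S.pi_ev, ← hσe, ← hρe]
    group
  have hw : ((ev S.f wWord : S.C) : G) = S.w := (S.ev_fG wWord).symm
  rcases S.eq_of_map hπ with h | h <;> push_cast at h <;> rw [hw] at h
  · exact ⟨s, s.2, h.symm⟩
  · have hk : ev S.fG wordS * S.w * (ev S.fG wordS)⁻¹ = S.w * S.t := by
      rw [mul_inv_eq_iff_eq_mul, ← S.t_eq, w, ← ev_append, ← ev_append, ← ev_append]
      exact S.eval_eq (by decide +kernel)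
    refine ⟨s * ev S.fG wordS, mul_mem s.2 (S.evG_mem _), ?_⟩
    rw [h, show (s : G) * ev S.fG wordS * S.w * ((s : G) * ev S.fG wordS)⁻¹ =
      (s : G) * (ev S.fG wordS * S.w * (ev S.fG wordS)⁻¹) * (s : G)⁻¹ by group, hk, mul_assoc _ (S.w * S.t),
      mul_assoc S.w, (show Commute S.t (s : G)⁻¹ from (show Commute (s : G) S.t from S.t_comm s.2).inv_left.symm).eq]
    group

end Setting

end Cfsg.Agent.McLType
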